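import Groth.Prelude.Def_LefPen
import Mathlib.Algebra.MvPolynomial.Funext
import Mathlib.Algebra.Polynomial.Roots
import Mathlib.RingTheory.MvPolynomial.Homogeneous

/-!
# API for `LefPen.IsPolyFun`, `LefPen.IsGeneric` and `LefPen.IsZOpen`
-/

set_option autoImplicit false

universe u

open MvPolynomial LefPen

namespace Groth.Agent.Lefpen.H702.PolyFun

section Basic

variable {k : Type u} [Field k] {V : Type u} [AddCommGroup V] [Module k V]

theorem isPolyFun_const (a : k) : IsPolyFun k (fun _ : V ↦ a) :=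
  (Algebra.adjoin k (Set.range (fun l : Module.Dual k V => (l : V → k)))).algebraMap_mem a

theorem isPolyFun_dual (l : Module.Dual k V) : IsPolyFun k (fun v : V ↦ l v) :=
  Algebra.subset_adjoin ⟨l, rfl⟩

theorem IsPolyFun.add {f g : V → k} (hf : IsPolyFun k f) (hg : IsPolyFun k g) :
    IsPolyFun k (fun v ↦ f v + g v) :=
  Subalgebra.add_mem _ hf hg

theorem IsPolyFun.mul {f g : V → k} (hf : IsPolyFun k f) (hg : IsPolyFun k g) :
    IsPolyFun k (fun v ↦ f v * g v) :=
  Subalgebra.mul_mem _ hf hg

theorem IsPolyFun.neg {f : V → k} (hf : IsPolyFun k f) : IsPolyFun k (fun v ↦ - f v) :=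
  Subalgebra.neg_mem _ hf

theorem IsPolyFun.sub {f g : V → k} (hf : IsPolyFun k f) (hg : IsPolyFun k g) :
    IsPolyFun k (fun v ↦ f v - g v) :=
  Subalgebra.sub_mem _ hf hg

theorem IsPolyFun.pow {f : V → k} (hf : IsPolyFun k f) (n : ℕ) : IsPolyFun k (fun v ↦ f v ^ n) :=
  Subalgebra.pow_mem _ hf n

theorem IsPolyFun.sum {ι : Type*} (s : Finset ι) {f : ι → V → k}
    (hf : ∀ i ∈ s, IsPolyFun k (f i)) : IsPolyFun k (fun v ↦ ∑ i ∈ s, f i v) := by
  have := Subalgebra.sum_mem
    (Algebra.adjoin k (Set.range (fun l : Module.Dual k V => (l : V → k)))) (t := s) (f := f) hf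
  unfold IsPolyFun
  convert this using 1
  ext v
  rw [Finset.sum_apply]

theorem IsPolyFun.prod {ι : Type*} (s : Finset ι) {f : ι → V → k}
    (hf : ∀ i ∈ s, IsPolyFun k (f i)) : IsPolyFun k (fun v ↦ ∏ i ∈ s, f i v) := by
  have := Subalgebra.prod_mem
    (Algebra.adjoin k (Set.range (fun l : Module.Dual k V => (l : V → k)))) (t := s) (f := f) hf
  unfold IsPolyFun
  convert this using 1
  ext v
  rw [Finset.prod_apply]

/-- Polynomials in polynomial functions are polynomial functions. -/
theorem isPolyFun_aeval {σ : Type*} {c : σ → V → k} (hc : ∀ s, IsPolyFun k (c s))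
    (p : MvPolynomial σ k) : IsPolyFun k (fun v ↦ aeval (fun s ↦ c s v) p) := by
  induction p using MvPolynomial.induction_on with
  | C a => simpa using isPolyFun_const a
  | add p q hp hq => simpa using IsPolyFun.add hp hq
  | mul_X p s hp => simpa using IsPolyFun.mul hp (hc s)

/-- Induction on polynomial functions. -/
theorem IsPolyFun.induction {P : (V → k) → Prop} (hconst : ∀ a : k, P (fun _ ↦ a))
    (hdual : ∀ l : Module.Dual k V, P (fun v ↦ l v))
    (hadd : ∀ f g, P f → P g → P (fun v ↦ f v + g v))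
    (hmul : ∀ f g, P f → P g → P (fun v ↦ f v * g v)) {f : V → k} (hf : IsPolyFun k f) : P f := by
  unfold IsPolyFun at hf
  induction hf using Algebra.adjoin_induction with
  | mem x hx =>
    obtain ⟨l, rfl⟩ := hx
    exact hdual l
  | algebraMap r => exact hconst r
  | add x y _ _ hx hy => exact hadd x y hx hy
  | mul x y _ _ hx hy => exact hmul x y hx hy

/-- Composition with a linear map. -/
theorem IsPolyFun.comp_linear {W : Type u} [AddCommGroup W] [Module k W] (L : W →ₗ[k] V)
    {f : V → k} (hf : IsPolyFun k f) : IsPolyFun k (fun w ↦ f (L w)) := by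
  refine IsPolyFun.induction (P := fun f ↦ IsPolyFun k (fun w ↦ f (L w))) ?_ ?_ ?_ ?_ hf
  · intro a; exact isPolyFun_const a
  · intro l; exact isPolyFun_dual (l ∘ₗ L)
  · intro f g hf hg; exact IsPolyFun.add hf hg
  · intro f g hf hg; exact IsPolyFun.mul hf hg

/-- A polynomial function is a polynomial in finitely many linear forms. -/
theorem IsPolyFun.exists_mvPolynomial {f : V → k} (hf : IsPolyFun k f) :
    ∃ p : MvPolynomial (Module.Dual k V) k, ∀ v, f v = aeval (fun l : Module.Dual k V ↦ l v) p := by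
  refine IsPolyFun.induction (P := fun f ↦ ∃ p : MvPolynomial (Module.Dual k V) k,
    ∀ v, f v = aeval (fun l : Module.Dual k V ↦ l v) p) ?_ ?_ ?_ ?_ hf
  · intro a; exact ⟨C a, fun v ↦ by simp⟩
  · intro l; exact ⟨X l, fun v ↦ by simp⟩
  · rintro f g ⟨p, hp⟩ ⟨q, hq⟩; exact ⟨p + q, fun v ↦ by simp [hp, hq]⟩
  · rintro f g ⟨p, hp⟩ ⟨q, hq⟩; exact ⟨p * q, fun v ↦ by simp [hp, hq]⟩

/-- The restriction of a polynomial function to an affine line is a polynomial in the parameter. -/
theorem IsPolyFun.exists_polynomial {f : V → k} (hf : IsPolyFun k f) (v w : V) :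
    ∃ P : Polynomial k, ∀ t : k, f (v + t • w) = P.eval t := by
  refine IsPolyFun.induction (P := fun f ↦ ∃ P : Polynomial k, ∀ t : k, f (v + t • w) = P.eval t)
    ?_ ?_ ?_ ?_ hf
  · intro a; exact ⟨Polynomial.C a, fun t ↦ by simp⟩
  · intro l
    exact ⟨Polynomial.C (l v) + Polynomial.X * Polynomial.C (l w), fun t ↦ by
      change l (v + t • w) = _
      rw [map_add, map_smul, smul_eq_mul, mul_comm]; simp⟩
  · rintro f g ⟨p, hp⟩ ⟨q, hq⟩; exact ⟨p + q, fun v ↦ by simp [hp, hq]⟩
  · rintro f g ⟨p, hp⟩ ⟨q, hq⟩; exact ⟨p * q, fun v ↦ by simp [hp, hq]⟩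

/-- A polynomial function nonzero at some point of a line vanishes only at finitely many of its
points. -/
theorem IsPolyFun.finite_zeros_line {f : V → k} (hf : IsPolyFun k f) (v w : V) {t₀ : k}
    (h : f (v + t₀ • w) ≠ 0) : {t : k | f (v + t • w) = 0}.Finite := by
  obtain ⟨P, hP⟩ := IsPolyFun.exists_polynomial hf v w
  have hP0 : P ≠ 0 := by
    rintro rfl
    exact h (by rw [hP]; simp)
  refine (P.rootSet_finite k).subset fun t ht ↦ ?_
  rw [Set.mem_ofPred_eq, hP] at ht
  rw [Polynomial.mem_rootSet]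
  exact ⟨hP0, by simpa using ht⟩

/-- The product of two polynomial functions which are not identically zero is not identically zero. -/
theorem IsPolyFun.exists_mul_ne_zero [Infinite k] {f g : V → k} (hf : IsPolyFun k f)
    (hg : IsPolyFun k g) (hf0 : ∃ v, f v ≠ 0) (hg0 : ∃ v, g v ≠ 0) : ∃ v, f v * g v ≠ 0 := by
  obtain ⟨v, hv⟩ := hf0
  obtain ⟨w, hw⟩ := hg0
  have h1 : {t : k | f (v + t • (w - v)) = 0}.Finite :=
    IsPolyFun.finite_zeros_line hf v (w - v) (t₀ := 0) (by simpa using hv)
  have h2 : {t : k | g (v + t • (w - v)) = 0}.Finite :=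
    IsPolyFun.finite_zeros_line hg v (w - v) (t₀ := 1) (by simpa using hw)
  obtain ⟨t, ht⟩ := (h1.union h2).infinite_compl.nonempty
  refine ⟨v + t • (w - v), mul_ne_zero (fun h ↦ ht (Or.inl h)) (fun h ↦ ht (Or.inr h))⟩

theorem IsGeneric.mono {S T : Set V} (hS : IsGeneric k S) (h : S ⊆ T) : IsGeneric k T := by
  obtain ⟨f, hf, h0, h1⟩ := hS
  exact ⟨f, hf, h0, fun v hv ↦ h (h1 v hv)⟩

theorem IsGeneric.inter [Infinite k] {S T : Set V} (hS : IsGeneric k S) (hT : IsGeneric k T) :
    IsGeneric k (S ∩ T) := by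
  obtain ⟨f, hf, h0, h1⟩ := hS
  obtain ⟨g, hg, h0', h1'⟩ := hT
  exact ⟨fun v ↦ f v * g v, IsPolyFun.mul hf hg, IsPolyFun.exists_mul_ne_zero hf hg h0 h0', fun v hv ↦
    ⟨h1 v (left_ne_zero_of_mul hv), h1' v (right_ne_zero_of_mul hv)⟩⟩

theorem isGeneric_univ : IsGeneric k (Set.univ : Set V) :=
  ⟨fun _ ↦ 1, isPolyFun_const 1, ⟨0, one_ne_zero⟩, fun v _ ↦ Set.mem_univ v⟩

theorem IsGeneric.iInter [Infinite k] {ι : Type*} [Finite ι] {S : ι → Set V}
    (hS : ∀ i, IsGeneric k (S i)) : IsGeneric k (⋂ i, S i) := by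
  classical
  have := Fintype.ofFinite ι
  have h : ∀ s : Finset ι, IsGeneric k (⋂ i ∈ s, S i) := by
    intro s
    induction s using Finset.induction_on with
    | empty => simpa using isGeneric_univ
    | insert a s ha ih =>
      rw [Finset.set_biInter_insert]
      exact IsGeneric.inter (hS a) ih
  simpa using h Finset.univ

theorem IsGeneric.nonempty {S : Set V} (hS : IsGeneric k S) : S.Nonempty := by
  obtain ⟨f, _, ⟨v, hv⟩, h1⟩ := hS
  exact ⟨v, h1 v hv⟩

/-- Generic sets pull back under surjective linear maps. -/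
theorem IsGeneric.preimage {W : Type u} [AddCommGroup W] [Module k W] (L : W →ₗ[k] V)
    (hL : Function.Surjective L) {S : Set V} (hS : IsGeneric k S) : IsGeneric k (L ⁻¹' S) := by
  obtain ⟨f, hf, ⟨v, hv⟩, h1⟩ := hS
  obtain ⟨w, rfl⟩ := hL v
  exact ⟨fun w ↦ f (L w), IsPolyFun.comp_linear L hf, ⟨w, hv⟩, fun w hw ↦ h1 _ hw⟩

/-- A nonzero polynomial in coordinates gives a generic set. -/
theorem isGeneric_of_mvPolynomial [Infinite k] {σ : Type*} (c : V ≃ₗ[k] (σ → k))
    {f : MvPolynomial σ k} (hf : f ≠ 0) {S : Set V} (hS : ∀ v, aeval (c v) f ≠ 0 → v ∈ S) :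
    IsGeneric k S := by
  refine ⟨fun v ↦ aeval (c v) f, ?_, ?_, hS⟩
  · exact isPolyFun_aeval (c := fun s v ↦ c v s)
      (fun s ↦ isPolyFun_dual ((LinearMap.proj s).comp c.toLinearMap)) f
  · by_contra! h
    apply hf
    apply MvPolynomial.funext
    intro x
    have := h (c.symm x)
    rw [LinearEquiv.apply_symm_apply] at this
    rw [map_zero, ← this, MvPolynomial.aeval_def, MvPolynomial.eval₂_eq_eval_map]
    simp

end Basic

section Forms

variable {k : Type u} [Field k] {r d : ℕ}

/-- The coefficients of a form. -/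
noncomputable def formCoords (r : ℕ) (k : Type u) [Field k] (d : ℕ) :
    Form r k d ≃ₗ[k] ({e : Fin (r + 1) →₀ ℕ // e.degree = d} → k) := by
  classical
  exact LinearEquiv.ofBijective
    { toFun := fun G e ↦ coeff e.1 G.1
      map_add' := fun G H ↦ by ext e; simp
      map_smul' := fun a G ↦ by ext e; simp }
    ⟨by
      rw [injective_iff_map_eq_zero]
      intro G hG
      apply Subtype.ext
      ext e
      rw [ZeroMemClass.coe_zero, coeff_zero]
      by_cases he : e.degree = d
      · exact congrFun hG ⟨e, he⟩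
      · have h1 : (G.1).IsHomogeneous d := (mem_homogeneousSubmodule d G.1).1 G.2
        exact h1.coeff_eq_zero he, by
      intro a
      have hfin : Finite {e : Fin (r + 1) →₀ ℕ // e.degree = d} := by
        have h1 : {e : Fin (r + 1) →₀ ℕ | e.degree = d}.Finite := by
          have h2 : ((Finset.univ : Finset (Fin (r + 1))).finsuppAntidiag d : Set (Fin (r + 1) →₀ ℕ)).Finite :=
            Finset.finite_toSet _
          refine h2.subset fun e he ↦ ?_
          rw [Finset.mem_coe, Finset.mem_finsuppAntidiag]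
          refine ⟨?_, by simp⟩
          rw [← he, Finsupp.degree_eq_sum]
        exact h1.to_subtype
      have := Fintype.ofFinite {e : Fin (r + 1) →₀ ℕ // e.degree = d}
      refine ⟨⟨∑ e, monomial e.1 (a e), Submodule.sum_mem _ fun e _ ↦ ?_⟩, ?_⟩
      · rw [mem_homogeneousSubmodule]
        exact isHomogeneous_monomial _ e.2
      · ext e
        change coeff e.1 (∑ e, monomial e.1 (a e)) = a e
        rw [coeff_sum, Finset.sum_eq_single e]
        · simp
        · intro b _ hb
          rw [coeff_monomial, if_neg]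
          exact fun h ↦ hb (Subtype.ext h)
        · simp⟩

@[simp]
theorem formCoords_apply (G : Form r k d) (e : {e : Fin (r + 1) →₀ ℕ // e.degree = d}) :
    formCoords r k d G e = coeff e.1 G.1 := rfl

/-- The coefficients of a linear form. -/
noncomputable def linCoords (r : ℕ) (k : Type u) [Field k] :
    Form r k 1 ≃ₗ[k] (Fin (r + 1) → k) := by
  classical
  exact LinearEquiv.ofBijective
    { toFun := fun G l ↦ coeff (Finsupp.single l 1) G.1
      map_add' := fun G H ↦ by ext e; simp
      map_smul' := fun a G ↦ by ext e; simp }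
    ⟨by
      rw [injective_iff_map_eq_zero]
      intro G hG
      apply (formCoords r k 1).injective
      rw [map_zero]
      ext ⟨e, he⟩
      obtain ⟨l, rfl⟩ : ∃ l, Finsupp.single l 1 = e := by
        have h1 : e ∈ Set.range (fun a : Fin (r + 1) ↦ Finsupp.single a 1) := by
          rw [Finsupp.range_single_one]
          exact he
        exact h1
      exact congrFun hG l, by
      intro a
      refine ⟨⟨∑ l, monomial (Finsupp.single l 1) (a l), Submodule.sum_mem _ fun e _ ↦ ?_⟩, ?_⟩
      · rw [mem_homogeneousSubmodule]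
        exact isHomogeneous_monomial _ (by simp)
      · ext e
        change coeff (Finsupp.single e 1) (∑ e, monomial (Finsupp.single e 1) (a e)) = a e
        rw [coeff_sum, Finset.sum_eq_single e]
        · simp
        · intro b _ hb
          rw [coeff_monomial, if_neg]
          exact fun h ↦ hb (Finsupp.single_left_injective one_ne_zero h)
        · simp⟩

theorem linCoords_apply (G : Form r k 1) (l : Fin (r + 1)) :
    linCoords r k G l = coeff (Finsupp.single l 1) G.1 := rfl

/-- A linear form is the combination of the variables with its coefficients. -/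
theorem eq_sum_linCoords (G : Form r k 1) :
    G.1 = ∑ l, C (linCoords r k G l) * X l := by
  classical
  have h : G = ⟨∑ l, C (linCoords r k G l) * X l, by
      rw [mem_homogeneousSubmodule]
      exact IsHomogeneous.sum _ _ _ fun l _ ↦ by
        simpa using (isHomogeneous_C (Fin (r + 1)) (linCoords r k G l)).mul (isHomogeneous_X k l)⟩ := by
    apply (linCoords r k).injective
    ext e
    rw [linCoords_apply, linCoords_apply]
    change _ = coeff (Finsupp.single e 1) (∑ l, C (linCoords r k G l) * X l)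
    rw [coeff_sum, Finset.sum_eq_single e]
    · simp [linCoords_apply]
    · intro b _ hb
      rw [coeff_C_mul, coeff_X, if_neg, mul_zero]
      exact fun h ↦ hb (Finsupp.single_left_injective one_ne_zero h)
    · simp
  exact congrArg Subtype.val h

theorem aeval_eq_sum_linCoords {A : Type*} [CommRing A] [Algebra k A] (G : Form r k 1)
    (x : Fin (r + 1) → A) : aeval x G.1 = ∑ l, algebraMap k A (linCoords r k G l) * x l := by
  conv_lhs => rw [eq_sum_linCoords G]
  simp

theorem pderiv_eq_linCoords (G : Form r k 1) (l : Fin (r + 1)) :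
    pderiv l G.1 = C (linCoords r k G l) := by
  classical
  conv_lhs => rw [eq_sum_linCoords G]
  rw [map_sum, Finset.sum_eq_single l]
  · simp
  · intro b _ hb
    simp [pderiv_X, hb]
  · simp

end Forms

end Groth.Agent.Lefpen.H702.PolyFun
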