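import Groth.Agent.Lefpen.H702.LocAlg
import Groth.Agent.Lefpen.H705.PointCoord
import Groth.Agent.Lefpen.H705.ClosedPoint

/-!
# Classical coordinates of closed points of an embedded scheme

`i : X ⟶ P^r_k` a closed immersion, `k` algebraically closed, `j` a chart.
* `chartHom i j : k[x_1, …, x_r] → Γ(X, X ∩ D_+(T_j))`, surjective; `coordHom = germ ∘ chartHom`;
* `IsCoords i j x hx a`: the point `x` has affine coordinates `a` in the chart `j`;
* `exists_isCoords`: closed points have coordinates;
* `mem_pow_iff`, `mem_maximalIdeal_iff`, `mem_sq_iff`: powers of the maximal ideal; Lagrange multipliers;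
* `stalkEqn_mem_maximalIdeal_iff`, `stalkEqn_mem_sq_iff`: the same for forms;
* `eq_of_isCoords`: a closed point is determined by its coordinates;
* `homCoords j a`: homogeneous coordinates `(a with 1 at place j)`.
-/

set_option autoImplicit false
universe u

open CategoryTheory AlgebraicGeometry Limits TopologicalSpace Opposite MvPolynomial

namespace Groth.Agent.Lefpen.H702.Dict

open LefPen Groth.Agent.Lefpen.H705.HypIdeal Groth.Agent.Lefpen.H705.ChartPoly
open Groth.Agent.Lefpen.H705.SecIdeal Groth.Agent.Lefpen.H705.PointCoord IsLocalRing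
open Groth.Agent.Sga5 Groth.Agent.Fdesc.LocGen
open Groth.Agent.Lefpen.H702.AffAlg

variable {r : ℕ} {k : Type u} [Field k] {d : ℕ} {X : Scheme.{u}} (i : X ⟶ CohB1.ProjSpace r k)

/-- Polynomials in the affine coordinates as functions on the chart of an embedded scheme. -/
noncomputable def chartHom (j : Fin (r + 1)) :
    MvPolynomial (Fin r) k →+* Γ(X, i ⁻¹ᵁ LefPen.chart r k j) :=
  (i.app (LefPen.chart r k j)).hom.comp (polyToChart j)

theorem chartHom_surjective [IsClosedImmersion i] (j : Fin (r + 1)) :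
    Function.Surjective (chartHom i j) :=
  (i.app_surjective _ (isAffineOpen_chart j)).comp (polyToChart_bijective j).2

theorem germ_chartHom (j : Fin (r + 1)) (x : X) (hx : i x ∈ LefPen.chart r k j)
    (p : MvPolynomial (Fin r) k) :
    X.presheaf.germ (i ⁻¹ᵁ LefPen.chart r k j) x hx (chartHom i j p) = coordHom i j x hx p := by
  change (i.app _ ≫ X.presheaf.germ (i ⁻¹ᵁ LefPen.chart r k j) x hx).hom (polyToChart j p) =
    ((CohB1.ProjSpace r k).presheaf.germ (LefPen.chart r k j) (i x) hx ≫ i.stalkMap x).hom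
      (polyToChart j p)
  rw [Scheme.Hom.germ_stalkMap]

/-- The point `x` has affine coordinates `a` in the chart `j`. -/
def IsCoords (j : Fin (r + 1)) (x : X) (hx : i x ∈ LefPen.chart r k j) (a : Fin r → k) : Prop :=
  ∀ p : MvPolynomial (Fin r) k,
    coordHom i j x hx p ∈ maximalIdeal (X.presheaf.stalk x) ↔ eval a p = 0

section Closed

variable [IsClosedImmersion i] (j : Fin (r + 1)) (x : X) (hx : i x ∈ LefPen.chart r k j)

theorem isAffineOpen_preimage : IsAffineOpen (i ⁻¹ᵁ LefPen.chart r k j) :=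
  (isAffineOpen_chart j).preimage i

/-- The maximal ideal of the chart ring at a point. -/
noncomputable def ptPrime : Ideal Γ(X, i ⁻¹ᵁ LefPen.chart r k j) :=
  ((isAffineOpen_preimage i j).primeIdealOf ⟨x, hx⟩).asIdeal

instance isPrime_ptPrime : (ptPrime i j x hx).IsPrime :=
  ((isAffineOpen_preimage i j).primeIdealOf ⟨x, hx⟩).2

theorem isMaximal_ptPrime (hxc : IsClosed ({x} : Set X)) : (ptPrime i j x hx).IsMaximal :=
  (isAffineOpen_preimage i j).primeIdealOf_isMaximal_of_isClosed ⟨x, hx⟩ hxc

theorem exists_isCoords [IsAlgClosed k] (hxc : IsClosed ({x} : Set X)) :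
    ∃ a : Fin r → k, IsCoords i j x hx a ∧
      (ptPrime i j x hx).comap (chartHom i j) = ptIdeal a := by
  have := isMaximal_ptPrime i j x hx hxc
  obtain ⟨a, ha⟩ := LocAlg.exists_point (chartHom i j) (chartHom_surjective i j) (ptPrime i j x hx)
  refine ⟨a, fun p ↦ ?_, ha⟩
  let _ := X.presheaf.algebra_section_stalk (⟨x, hx⟩ : i ⁻¹ᵁ LefPen.chart r k j)
  have hloc : IsLocalization.AtPrime (X.presheaf.stalk x) (ptPrime i j x hx) :=
    (isAffineOpen_preimage i j).isLocalization_stalk ⟨x, hx⟩
  have h1 := LocAlg.mem_maximalIdeal_iff (chartHom i j) (chartHom_surjective i j) (ptPrime i j x hx)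
    a ha (O := X.presheaf.stalk x) p
  rw [← h1, ← germ_chartHom]
  rfl

variable {i j x hx}

/-- The coordinates determine the prime of the chart ring. -/
theorem IsCoords.comap_eq {a : Fin r → k} (ha : IsCoords i j x hx a) :
    (ptPrime i j x hx).comap (chartHom i j) = ptIdeal a := by
  let _ := X.presheaf.algebra_section_stalk (⟨x, hx⟩ : i ⁻¹ᵁ LefPen.chart r k j)
  have hloc : IsLocalization.AtPrime (X.presheaf.stalk x) (ptPrime i j x hx) :=
    (isAffineOpen_preimage i j).isLocalization_stalk ⟨x, hx⟩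
  ext p
  rw [mem_ptIdeal_iff, ← ha p, ← germ_chartHom, Ideal.mem_comap]
  exact (IsLocalization.AtPrime.to_map_mem_maximal_iff (X.presheaf.stalk x) (ptPrime i j x hx)
    (chartHom i j p)).symm

theorem IsCoords.unique {a b : Fin r → k} (ha : IsCoords i j x hx a) (hb : IsCoords i j x hx b) :
    a = b := by
  ext l
  have h1 := (ha (MvPolynomial.X l - C (b l))).1 ((hb _).2 (by simp))
  rw [map_sub, eval_X, eval_C, sub_eq_zero] at h1
  exact h1

theorem IsCoords.mem_pow_iff (hxc : IsClosed ({x} : Set X)) {a : Fin r → k}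
    (ha : IsCoords i j x hx a) (n : ℕ) (p : MvPolynomial (Fin r) k) :
    coordHom i j x hx p ∈ maximalIdeal (X.presheaf.stalk x) ^ n ↔
      p ∈ ptIdeal a ^ n ⊔ RingHom.ker (chartHom i j) := by
  have := isMaximal_ptPrime i j x hx hxc
  let _ := X.presheaf.algebra_section_stalk (⟨x, hx⟩ : i ⁻¹ᵁ LefPen.chart r k j)
  have hloc : IsLocalization.AtPrime (X.presheaf.stalk x) (ptPrime i j x hx) :=
    (isAffineOpen_preimage i j).isLocalization_stalk ⟨x, hx⟩
  rw [← LocAlg.mem_pow_iff (chartHom i j) (chartHom_surjective i j) (ptPrime i j x hx)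
    a ha.comap_eq (O := X.presheaf.stalk x) n p, ← germ_chartHom]
  rfl

/-- Equations of the chart vanish at the coordinates. -/
theorem IsCoords.eval_eq_zero {a : Fin r → k} (ha : IsCoords i j x hx a)
    {p : MvPolynomial (Fin r) k} (hp : chartHom i j p = 0) : eval a p = 0 := by
  rw [← ha, ← germ_chartHom, hp, map_zero]
  exact Ideal.zero_mem _

/-- Lagrange multipliers: membership in the square of the maximal ideal. -/
theorem IsCoords.mem_sq_iff (hxc : IsClosed ({x} : Set X)) {a : Fin r → k}
    (ha : IsCoords i j x hx a) {β : Type*} [Fintype β] (f : β → MvPolynomial (Fin r) k)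
    (hf : Ideal.span (Set.range f) = RingHom.ker (chartHom i j)) (p : MvPolynomial (Fin r) k) :
    coordHom i j x hx p ∈ maximalIdeal (X.presheaf.stalk x) ^ 2 ↔
      eval a p = 0 ∧ ∃ c : β → k, ∀ l, eval a (pderiv l p) = ∑ b, c b * eval a (pderiv l (f b)) := by
  rw [ha.mem_pow_iff hxc, ← hf, mem_sq_sup_span_iff a f fun b ↦ ha.eval_eq_zero ?_]
  rw [← RingHom.mem_ker, ← hf]
  exact Ideal.subset_span ⟨b, rfl⟩

variable (i j) in
/-- The chart ideal is finitely generated. -/
theorem exists_equations : ∃ (s : ℕ) (f : Fin s → MvPolynomial (Fin r) k),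
    Ideal.span (Set.range f) = RingHom.ker (chartHom i j) := by
  have h1 : (RingHom.ker (chartHom i j)).FG := IsNoetherian.noetherian _
  obtain ⟨s, f, hf⟩ := Submodule.fg_iff_exists_fin_generating_family.1 h1
  exact ⟨s, f, hf⟩

/-- A point is determined by its coordinates. -/
theorem eq_of_isCoords {y : X} {hy : i y ∈ LefPen.chart r k j} {a : Fin r → k}
    (ha : IsCoords i j x hx a) (hb : IsCoords i j y hy a) : x = y := by
  have h1 : ptPrime i j x hx = ptPrime i j y hy := by
    have h2 := ha.comap_eq.trans hb.comap_eq.symm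
    rw [← Ideal.map_comap_of_surjective _ (chartHom_surjective i j) (ptPrime i j x hx), h2,
      Ideal.map_comap_of_surjective _ (chartHom_surjective i j)]
  have h2 : (isAffineOpen_preimage i j).primeIdealOf ⟨x, hx⟩ =
      (isAffineOpen_preimage i j).primeIdealOf ⟨y, hy⟩ := PrimeSpectrum.ext h1
  have h3 := congrArg (isAffineOpen_preimage i j).fromSpec h2
  rw [IsAffineOpen.fromSpec_primeIdealOf, IsAffineOpen.fromSpec_primeIdealOf] at h3
  exact h3

end Closed

section Forms

/-- Homogeneous coordinates from affine coordinates in the chart `j`. -/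
def homCoords {K : Type*} [One K] (j : Fin (r + 1)) (a : Fin r → K) : Fin (r + 1) → K :=
  j.insertNth (α := fun _ ↦ K) 1 a

@[simp] theorem homCoords_self {K : Type*} [One K] (j : Fin (r + 1)) (a : Fin r → K) :
    homCoords j a j = 1 := by simp [homCoords]

@[simp] theorem homCoords_succAbove {K : Type*} [One K] (j : Fin (r + 1)) (a : Fin r → K)
    (l : Fin r) : homCoords j a (j.succAbove l) = a l := by simp [homCoords]

theorem aeval_dehom {K : Type*} [CommRing K] [Algebra k K] (j : Fin (r + 1)) (a : Fin r → K)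
    (p : MvPolynomial (Fin (r + 1)) k) :
    aeval a (ProjChart.dehom r k j p) = aeval (homCoords j a) p := by
  change ((aeval a : MvPolynomial (Fin r) k →ₐ[k] K).toRingHom.comp (ProjChart.dehom r k j)) p =
    (aeval (homCoords j a) : MvPolynomial (Fin (r + 1)) k →ₐ[k] K).toRingHom p
  congr 1
  apply MvPolynomial.ringHom_ext
  · intro c
    simp
  · intro l
    obtain rfl | ⟨l, rfl⟩ := Fin.eq_self_or_eq_succAbove j l
    · simp
    · simp

theorem eval_dehom (j : Fin (r + 1)) (a : Fin r → k) (p : MvPolynomial (Fin (r + 1)) k) :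
    eval a (ProjChart.dehom r k j p) = eval (homCoords j a) p := by
  have := aeval_dehom (K := k) j a p
  simpa using this

variable {i} {j : Fin (r + 1)} {x : X} {hx : i x ∈ LefPen.chart r k j}

theorem IsCoords.stalkEqn_mem_iff {a : Fin r → k} (ha : IsCoords i j x hx a) (G : Form r k d) :
    stalkEqn i j x hx G ∈ maximalIdeal (X.presheaf.stalk x) ↔ eval (homCoords j a) G.1 = 0 := by
  rw [stalkEqn_eq, ha, eval_dehom]

end Forms

section TwoCharts

/-- If `T_l / T_j` is invertible at a point of the chart `j`, the point lies in the chart `l`. -/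
theorem mem_chart_of_isUnit (j l : Fin (r + 1)) (y : CohB1.ProjSpace r k)
    (hy : y ∈ LefPen.chart r k j)
    (hu : IsUnit ((CohB1.ProjSpace r k).presheaf.germ (LefPen.chart r k j) y hy (ratio j l))) :
    y ∈ LefPen.chart r k l := by
  by_contra hl
  have h1 : y ∈ (CohB1.ProjSpace r k).basicOpen (ratio (k := k) j l) :=
    ((CohB1.ProjSpace r k).mem_basicOpen _ y hy).2 hu
  have hle : (CohB1.ProjSpace r k).basicOpen (ratio (k := k) j l) ≤ LefPen.chart r k j :=
    (CohB1.ProjSpace r k).basicOpen_le _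
  have h2 : IsUnit (ores hle (ratio (k := k) j l)) :=
    RingedSpace.isUnit_res_basicOpen _ (ratio (k := k) j l)
  obtain ⟨g, hg⟩ := h2.exists_right_inv
  have h3 := congrArg (fun s ↦ (s.1 ⟨y, h1⟩).val) hg
  have h4 : ((ores hle (ratio (k := k) j l) * g).1 ⟨y, h1⟩).val =
      ((ratio (k := k) j l).1 ⟨y, hy⟩).val * (g.1 ⟨y, h1⟩).val := by
    change (((ratio (k := k) j l).1 ⟨y, hy⟩) * (g.1 ⟨y, h1⟩)).val = _
    rw [HomogeneousLocalization.val_mul]
  have h5 : (((1 : Γ(CohB1.ProjSpace r k, (CohB1.ProjSpace r k).basicOpen (ratio (k := k) j l)))).1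
      ⟨y, h1⟩).val = 1 :=
    HomogeneousLocalization.val_one (x := (ProjectiveSpectrum.asHomogeneousIdeal y).toIdeal.primeCompl)
      (𝒜 := CohB1.polyGrading r k)
  have h6 : ((ratio (k := k) j l).1 ⟨y, hy⟩).val * (g.1 ⟨y, h1⟩).val = 1 := by
    rw [← h4, ← h5]
    exact h3
  have h8 : ((ratio (k := k) j l).1 ⟨y, hy⟩).val =
      Localization.mk (MvPolynomial.X l : MvPolynomial (Fin (r + 1)) k)
        ⟨MvPolynomial.X j ^ 1, pow_mem_primeCompl j ⟨y, hy⟩ 1⟩ :=
    dehom_val (⟨MvPolynomial.X l, X_mem r k l⟩ : Form r k 1) j ⟨y, hy⟩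
  rw [h8] at h6
  have h7 : IsUnit (Localization.mk (MvPolynomial.X l : MvPolynomial (Fin (r + 1)) k)
      (⟨MvPolynomial.X j ^ 1, pow_mem_primeCompl j ⟨y, hy⟩ 1⟩ :
        (ProjectiveSpectrum.asHomogeneousIdeal y).toIdeal.primeCompl)) :=
    IsUnit.of_mul_eq_one _ h6
  rw [Localization.mk_eq_mk', IsLocalization.AtPrime.isUnit_mk'_iff _
    (ProjectiveSpectrum.asHomogeneousIdeal y).toIdeal] at h7
  exact hl h7

/-- Vanishing of a form at a point does not depend on the chart. -/
theorem stalkEqn_mem_iff_of_charts (j l : Fin (r + 1)) (x : X) (hj : i x ∈ LefPen.chart r k j)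
    (hl : i x ∈ LefPen.chart r k l) (G : Form r k d) :
    stalkEqn i j x hj G ∈ maximalIdeal (X.presheaf.stalk x) ↔
      stalkEqn i l x hl G ∈ maximalIdeal (X.presheaf.stalk x) := by
  have h1 := mem_support_secIdeal_iff i {G} j x hj
  have h2 := mem_support_secIdeal_iff i {G} l x hl
  simp only [Set.mem_singleton_iff, forall_eq] at h1 h2
  rw [← h1, ← h2]

/-- The form `T_l`. -/
noncomputable def Xform (r : ℕ) (k : Type u) [Field k] (l : Fin (r + 1)) : Form r k 1 :=
  ⟨MvPolynomial.X l, X_mem r k l⟩

variable {i} in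
/-- A point whose homogeneous coordinate `l` is not zero lies in the chart `l`. -/
theorem IsCoords.mem_chart {j l : Fin (r + 1)} {x : X} {hx : i x ∈ LefPen.chart r k j}
    {a : Fin r → k} (ha : IsCoords i j x hx a) (h : homCoords j a l ≠ 0) :
    i x ∈ LefPen.chart r k l := by
  refine mem_chart_of_isUnit j l (i x) hx ?_
  have h1 : stalkEqn i j x hx (Xform r k l) ∉ maximalIdeal (X.presheaf.stalk x) := by
    rw [ha.stalkEqn_mem_iff]
    simpa [Xform] using h
  rw [mem_maximalIdeal, mem_nonunits_iff, not_not] at h1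
  exact isUnit_of_map_unit (i.stalkMap x).hom _ h1

/-- Distinct closed points have non-proportional homogeneous coordinates. -/
theorem exists_minor_ne_zero [IsClosedImmersion i] [IsAlgClosed k] {j l : Fin (r + 1)} {x y : X}
    {hx : i x ∈ LefPen.chart r k j} {hy : i y ∈ LefPen.chart r k l}
    (hyc : IsClosed ({y} : Set X)) {a b : Fin r → k}
    (ha : IsCoords i j x hx a) (hb : IsCoords i l y hy b) (hxy : x ≠ y) :
    ∃ m m', homCoords j a m * homCoords l b m' - homCoords j a m' * homCoords l b m ≠ 0 := by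
  by_contra! hcon
  apply hxy
  have h1 : ∀ m, homCoords l b m = homCoords l b j * homCoords j a m := by
    intro m
    have := hcon j m
    rw [homCoords_self, one_mul, sub_eq_zero] at this
    rw [this, mul_comm]
  have h2 : homCoords l b j ≠ 0 := by
    intro h0
    have := h1 l
    rw [homCoords_self, h0, zero_mul] at this
    exact one_ne_zero this
  have hyj : i y ∈ LefPen.chart r k j := hb.mem_chart h2
  obtain ⟨b', hb', -⟩ := exists_isCoords i j y hyj hyc
  have h3 : ∀ m, homCoords j b' m = homCoords j a m := by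
    intro m
    let G : Form r k 1 := Xform r k m - homCoords j b' m • Xform r k j
    have hG : ∀ v : Fin (r + 1) → k, eval v G.1 = v m - homCoords j b' m * v j := by
      intro v
      change eval v (MvPolynomial.X m - homCoords j b' m • MvPolynomial.X j) = _
      rw [map_sub, smul_eq_C_mul, map_mul, eval_X, eval_C, eval_X]
    have h4 : stalkEqn i j y hyj G ∈ maximalIdeal (X.presheaf.stalk y) := by
      rw [hb'.stalkEqn_mem_iff, hG, homCoords_self, mul_one, sub_self]
    rw [stalkEqn_mem_iff_of_charts i j l y hyj hy, hb.stalkEqn_mem_iff, hG, h1 m, sub_eq_zero,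
      mul_comm _ (homCoords l b j)] at h4
    exact (mul_left_cancel₀ h2 h4).symm
  have h5 : b' = a := by
    ext m
    have := h3 (j.succAbove m)
    rwa [homCoords_succAbove, homCoords_succAbove] at this
  subst h5
  exact eq_of_isCoords ha hb'

end TwoCharts

end Groth.Agent.Lefpen.H702.Dict
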