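import Groth.Agent.Lefpen.H702.AffAlg
import Mathlib.RingTheory.Nullstellensatz
import Mathlib.RingTheory.Localization.AtPrime.Basic
import Mathlib.RingTheory.LocalRing.MaximalIdeal.Basic

/-!
# Local rings of closed points of embedded affine schemes

`k` algebraically closed, `π : k[X_σ] → A` surjective, `M` a maximal ideal of `A`, `O = A_M`,
`φ : k[X_σ] → O`.
* `exists_point`: `M` is the ideal of a point `a : σ → k`;
* `mem_pow_iff`: `φ p ∈ m^n ↔ p ∈ (ptIdeal a)^n + ker π`;
* `exists_quadForm`: quadratic part of `φ p`, for `p ∈ (ptIdeal a)^2`, in terms of parameters, and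
  degenerate directions.
-/

set_option autoImplicit false

open MvPolynomial IsLocalRing

namespace Groth.Agent.Lefpen.H702.LocAlg

open AffAlg

theorem comap_maximalIdeal_pow {A O : Type*} [CommRing A] [CommRing O] [Algebra A O] (M : Ideal A)
    [hM : M.IsMaximal] [IsLocalization.AtPrime O M] [IsLocalRing O] (n : ℕ) :
    (maximalIdeal O ^ n).comap (algebraMap A O) = M ^ n := by
  have hmap : M.map (algebraMap A O) = maximalIdeal O := IsLocalization.AtPrime.map_eq_maximalIdeal M O
  apply le_antisymm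
  · intro z hz
    rw [Ideal.mem_comap, ← hmap, ← Ideal.map_pow,
      IsLocalization.mem_map_algebraMap_iff M.primeCompl O] at hz
    obtain ⟨⟨⟨w, hw⟩, s, hs⟩, h⟩ := hz
    rw [← map_mul] at h
    obtain ⟨c, hc⟩ := (IsLocalization.eq_iff_exists M.primeCompl O).1 h
    -- `(c * s) * z ∈ M ^ n`, `c * s ∉ M`
    have h1 : (c : A) * s * z ∈ M ^ n := by
      have h2 : (c : A) * s * z = c * w := by
        rw [← hc]; ring
      rw [h2]
      exact Ideal.mul_mem_left _ _ hw
    have h3 : (c : A) * s ∉ M := hM.isPrime.mul_notMem c.2 hs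
    have h4 : Ideal.span {(c : A) * s} ⊔ M ^ n = ⊤ := by
      rcases Nat.eq_zero_or_pos n with rfl | hn
      · simp
      · rw [← Ideal.isCoprime_iff_sup_eq]
        refine IsCoprime.pow_right ?_
        rw [Ideal.isCoprime_iff_sup_eq, sup_comm]
        refine hM.1.2 _ (lt_of_le_of_ne le_sup_left fun h5 ↦ h3 ?_)
        have h6 : (c : A) * s ∈ M ⊔ Ideal.span {(c : A) * s} :=
          Ideal.mem_sup_right (Ideal.mem_span_singleton_self _)
        exact (le_of_eq h5.symm) h6
    have h5 : (1 : A) ∈ Ideal.span {(c : A) * s} ⊔ M ^ n := by rw [h4]; trivial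
    obtain ⟨x, hx, y, hy, hxy⟩ := Submodule.mem_sup.1 h5
    obtain ⟨u, rfl⟩ := Ideal.mem_span_singleton'.1 hx
    have h6 : z = u * ((c : A) * s * z) + y * z := by
      calc z = 1 * z := (one_mul z).symm
        _ = _ := by rw [← hxy]; ring
    rw [h6]
    exact Ideal.add_mem _ (Ideal.mul_mem_left _ _ h1) (Ideal.mul_mem_right _ _ hy)
  · rw [← Ideal.map_le_iff_le_comap, Ideal.map_pow, hmap]

section Point

variable {k : Type*} [Field k] {σ : Type*} [Fintype σ]

theorem exists_point [IsAlgClosed k] {A : Type*} [CommRing A] (π : MvPolynomial σ k →+* A)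
    (hπ : Function.Surjective π) (M : Ideal A) [hM : M.IsMaximal] :
    ∃ a : σ → k, M.comap π = ptIdeal a := by
  have h1 : (M.comap π).IsMaximal := Ideal.comap_isMaximal_of_surjective π hπ
  obtain ⟨a, ha⟩ := isMaximal_iff_eq_vanishingIdeal_singleton.1 h1
  refine ⟨a, ?_⟩
  rw [ha]
  ext p
  rw [mem_ptIdeal_iff, mem_vanishingIdeal_singleton_iff]
  simp

variable {A : Type*} [CommRing A] (π : MvPolynomial σ k →+* A) (hπ : Function.Surjective π)
  (M : Ideal A) [M.IsMaximal] (a : σ → k) (ha : M.comap π = ptIdeal a)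
  {O : Type*} [CommRing O] [IsLocalRing O] [Algebra A O] [IsLocalization.AtPrime O M]

include hπ ha

theorem mem_pow_iff (n : ℕ) (p : MvPolynomial σ k) :
    algebraMap A O (π p) ∈ maximalIdeal O ^ n ↔ p ∈ ptIdeal a ^ n ⊔ RingHom.ker π := by
  have hM : (ptIdeal a).map π = M := by
    rw [← ha, Ideal.map_comap_of_surjective π hπ]
  rw [← Ideal.mem_comap, comap_maximalIdeal_pow M n, ← hM, ← Ideal.map_pow, ← Ideal.mem_comap,
    Ideal.comap_map_of_surjective π hπ]
  rfl

theorem mem_maximalIdeal_iff (p : MvPolynomial σ k) :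
    algebraMap A O (π p) ∈ maximalIdeal O ↔ eval a p = 0 := by
  have h1 := mem_pow_iff π hπ M a ha (O := O) 1 p
  rw [pow_one, pow_one] at h1
  rw [h1, ← mem_ptIdeal_iff, sup_eq_left.2]
  rw [← ha]
  intro q hq
  rw [Ideal.mem_comap, (RingHom.mem_ker).1 hq]
  exact M.zero_mem

omit [IsLocalRing O] in
theorem eval_eq_zero_of_mem_ker {p : MvPolynomial σ k} (hp : π p = 0) : eval a p = 0 := by
  have _ := hπ
  rw [← mem_ptIdeal_iff, ← ha, Ideal.mem_comap, hp]
  exact M.zero_mem

/-- The maximal ideal is generated by the coordinates. -/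
theorem span_coord :
    Ideal.span (Set.range fun l ↦ algebraMap A O (π (X l - C (a l)))) = maximalIdeal O := by
  rw [← IsLocalization.AtPrime.map_eq_maximalIdeal M O]
  have hM : (ptIdeal a).map π = M := by
    rw [← ha, Ideal.map_comap_of_surjective π hπ]
  conv_rhs => rw [← hM]
  rw [ptIdeal, Ideal.map_span, Ideal.map_span, ← Set.range_comp, ← Set.range_comp]
  rfl

/-- Every element of the local ring is a constant modulo the maximal ideal. -/
theorem exists_const (z : O) : ∃ c : k, z - algebraMap A O (π (C c)) ∈ maximalIdeal O := by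
  obtain ⟨⟨x, s⟩, h⟩ := IsLocalization.surj M.primeCompl z
  obtain ⟨p, rfl⟩ := hπ x
  obtain ⟨q, hq⟩ := hπ s
  have hs : eval a q ≠ 0 := by
    intro h0
    rw [← mem_ptIdeal_iff, ← ha, Ideal.mem_comap, hq] at h0
    exact s.2 h0
  refine ⟨eval a p / eval a q, ?_⟩
  have hu : IsUnit (algebraMap A O (s : A)) := IsLocalization.map_units O s
  rw [← (maximalIdeal O).unit_mul_mem_iff_mem hu, mul_sub, mul_comm _ z]
  dsimp only at h
  rw [h, ← hq, ← map_mul, ← map_mul, ← map_sub, ← map_sub, mem_maximalIdeal_iff π hπ M a ha]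
  simp only [map_sub, map_mul, eval_C]
  rw [mul_div_cancel₀ _ hs, sub_self]

end Point

section Quad

variable {k : Type*} [Field k] {σ : Type*} [Fintype σ]
variable {A : Type*} [CommRing A] (π : MvPolynomial σ k →+* A) (hπ : Function.Surjective π)
  (M : Ideal A) [M.IsMaximal] (a : σ → k) (ha : M.comap π = ptIdeal a)
  {O : Type*} [CommRing O] [IsLocalRing O] [Algebra A O] [IsLocalization.AtPrime O M]
  {ι : Type*} [Fintype ι] (t : ι → O)

include hπ ha

/-- Elements of the maximal ideal are linear combinations of parameters modulo its square. -/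
theorem exists_lin (ht : Ideal.span (Set.range t) = maximalIdeal O) (z : O) (hz : z ∈ maximalIdeal O) :
    ∃ c : ι → k, z - ∑ i, algebraMap A O (π (C (c i))) * t i ∈ maximalIdeal O ^ 2 := by
  rw [← ht, Ideal.span, Submodule.mem_span_range_iff_exists_fun] at hz
  obtain ⟨g, rfl⟩ := hz
  choose c hc using fun i ↦ exists_const π hπ M a ha (g i)
  refine ⟨c, ?_⟩
  rw [← Finset.sum_sub_distrib, pow_two]
  refine Ideal.sum_mem _ fun i _ ↦ ?_
  rw [smul_eq_mul, ← sub_mul]
  refine Ideal.mul_mem_mul (hc i) ?_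
  rw [← ht]
  exact Ideal.subset_span ⟨i, rfl⟩

/-- The quadratic part, in terms of parameters `t`, of a function in `(ptIdeal a)^2`, and its degenerate
directions in terms of the equations `f b` of the embedded scheme. -/
theorem exists_quadForm {β : Type*} [Fintype β] (f : β → MvPolynomial σ k)
    (hf : Ideal.span (Set.range f) = RingHom.ker π)
    (ht : Ideal.span (Set.range t) = maximalIdeal O)
    (hind : ∀ b : ι → k, ∑ i, algebraMap A O (π (C (b i))) * t i ∈ maximalIdeal O ^ 2 → b = 0)
    (p : MvPolynomial σ k) (hp : p ∈ ptIdeal a ^ 2)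
    (hno : ∀ (w : σ → k) (μ : β → k), (∀ b, ∑ l, eval a (pderiv l (f b)) * w l = 0) →
      (∀ l, ∑ m, eval a (pderiv l (pderiv m p)) * w m = ∑ b, μ b * eval a (pderiv l (f b))) → w = 0) :
    ∃ Q : ι → ι → k, algebraMap A O (π p) -
        ∑ i, ∑ j, algebraMap A O (π (C (Q i j))) * (t i * t j) ∈ maximalIdeal O ^ 3 ∧
      ∀ v : ι → k, (∀ i, ∑ j, (Q i j + Q j i) * v j = 0) → v = 0 := by
  classical
  let φ : MvPolynomial σ k →+* O := (algebraMap A O).comp π
  have hφ : ∀ p, algebraMap A O (π p) = φ p := fun _ ↦ rfl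
  simp_rw [hφ] at hind ⊢
  set ξ : σ → O := fun l ↦ φ (X l - C (a l)) with hξ
  have htm : ∀ i, t i ∈ maximalIdeal O := fun i ↦ by
    rw [← ht]; exact Ideal.subset_span ⟨i, rfl⟩
  have hξm : ∀ l, ξ l ∈ maximalIdeal O := fun l ↦
    (mem_maximalIdeal_iff π hπ M a ha _).2 (by simp)
  -- the Jacobian matrix `c` of the coordinates with respect to the parameters
  choose c hc using fun l ↦ exists_lin π hπ M a ha t ht (ξ l) (hξm l)
  simp_rw [hφ] at hc
  -- and conversely
  have hξs : Ideal.span (Set.range ξ) = maximalIdeal O := span_coord π hπ M a ha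
  choose d hd using fun i ↦ exists_lin π hπ M a ha ξ hξs (t i) (htm i)
  simp_rw [hφ] at hd
  -- linear combinations of the `ξ`
  have hlin : ∀ u : σ → k, ∑ l, φ (C (u l)) * ξ l -
      ∑ i, φ (C (∑ l, u l * c l i)) * t i ∈ maximalIdeal O ^ 2 := by
    intro u
    have h1 : ∑ l, φ (C (u l)) * ξ l - ∑ i, φ (C (∑ l, u l * c l i)) * t i =
        ∑ l, φ (C (u l)) * (ξ l - ∑ i, φ (C (c l i)) * t i) := by
      simp only [mul_sub, Finset.sum_sub_distrib, Finset.mul_sum, map_sum, map_mul, Finset.sum_mul]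
      congr 1
      rw [Finset.sum_comm]
      refine Finset.sum_congr rfl fun l _ ↦ Finset.sum_congr rfl fun i _ ↦ ?_
      ring
    rw [h1]
    exact Ideal.sum_mem _ fun l _ ↦ Ideal.mul_mem_left _ _ (hc l)
  have hlin0 : ∀ u : σ → k, ∑ l, φ (C (u l)) * ξ l ∈ maximalIdeal O ^ 2 ↔
      ∀ i, ∑ l, u l * c l i = 0 := by
    intro u
    constructor
    · intro h i
      have h1 : ∑ i, φ (C (∑ l, u l * c l i)) * t i ∈ maximalIdeal O ^ 2 := by
        have := Ideal.sub_mem _ h (hlin u)
        rwa [sub_sub_cancel] at this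
      exact congrFun (hind _ h1) i
    · intro h
      have := hlin u
      simp_rw [h] at this
      simpa using this
  -- `c` is injective
  have hcinj : ∀ v : ι → k, (∀ l, ∑ i, c l i * v i = 0) → v = 0 := by
    intro v hv
    have h1 : ∀ i j, ∑ l, d i l * c l j = if i = j then 1 else 0 := by
      intro i j
      have h2 : t i - ∑ j, φ (C (∑ l, d i l * c l j)) * t j ∈ maximalIdeal O ^ 2 := by
        have := Ideal.add_mem _ (hd i) (hlin (d i))
        rwa [sub_add_sub_cancel] at this
      have h3 : ∑ j, φ (C ((if i = j then 1 else 0) - ∑ l, d i l * c l j)) * t j ∈ maximalIdeal O ^ 2 := by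
        convert h2 using 1
        simp_rw [C_sub, map_sub, sub_mul, Finset.sum_sub_distrib]
        congr 1
        rw [Finset.sum_eq_single i]
        · simp
        · intro b _ hb
          rw [if_neg (Ne.symm hb)]
          simp
        · simp
      have h4 := congrFun (hind _ h3) j
      exact (sub_eq_zero.1 h4).symm
    ext i
    have h2 : v i = ∑ j, (∑ l, d i l * c l j) * v j := by
      simp_rw [h1]
      simp
    rw [h2]
    simp_rw [Finset.sum_mul, mul_assoc]
    rw [Finset.sum_comm]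
    simp_rw [← Finset.mul_sum, hv, mul_zero]
    simp
  obtain ⟨G, hG, hG'⟩ := exists_quad a p hp
  refine ⟨fun i j ↦ ∑ l, ∑ m, c l i * (G l m * c m j), ?_, ?_⟩
  · -- the quadratic part
    have h1 : φ p - ∑ l, ∑ m, φ (C (G l m)) * (ξ l * ξ m) ∈ maximalIdeal O ^ 3 := by
      have h2 := (mem_pow_iff π hπ M a ha (O := O) 3
        (p - ∑ l, ∑ m, C (G l m) * ((X l - C (a l)) * (X m - C (a m))))).2 (Ideal.mem_sup_left hG)
      rw [hφ, map_sub, map_sum] at h2
      simp_rw [map_sum, map_mul] at h2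
      exact h2
    have h2 : ∀ l m, ξ l * ξ m - (∑ i, φ (C (c l i)) * t i) * (∑ j, φ (C (c m j)) * t j) ∈
        maximalIdeal O ^ 3 := by
      intro l m
      have h3 : ξ l * ξ m - (∑ i, φ (C (c l i)) * t i) * (∑ j, φ (C (c m j)) * t j) =
          (ξ l - ∑ i, φ (C (c l i)) * t i) * ξ m +
          (∑ i, φ (C (c l i)) * t i) * (ξ m - ∑ j, φ (C (c m j)) * t j) := by ring
      rw [h3]
      refine Ideal.add_mem _ ?_ ?_
      · rw [pow_succ]
        exact Ideal.mul_mem_mul (hc l) (hξm m)
      · rw [pow_succ']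
        exact Ideal.mul_mem_mul (Ideal.sum_mem _ fun i _ ↦ Ideal.mul_mem_left _ _ (htm i)) (hc m)
    have h3 : ∑ l, ∑ m, φ (C (G l m)) * (ξ l * ξ m) -
        ∑ i, ∑ j, φ (C (∑ l, ∑ m, c l i * (G l m * c m j))) * (t i * t j) ∈ maximalIdeal O ^ 3 := by
      have h4 : ∑ i, ∑ j, φ (C (∑ l, ∑ m, c l i * (G l m * c m j))) * (t i * t j) =
          ∑ l, ∑ m, φ (C (G l m)) * ((∑ i, φ (C (c l i)) * t i) * (∑ j, φ (C (c m j)) * t j)) := by
        simp_rw [Finset.sum_mul_sum, map_sum, map_mul, Finset.mul_sum, Finset.sum_mul]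
        -- reorder the sums
        have e1 : ∀ (F : ι → ι → σ → σ → O), ∑ i, ∑ j, ∑ l, ∑ m, F i j l m =
            ∑ l, ∑ m, ∑ i, ∑ j, F i j l m := by
          intro F
          calc ∑ i, ∑ j, ∑ l, ∑ m, F i j l m = ∑ i, ∑ l, ∑ j, ∑ m, F i j l m :=
                Finset.sum_congr rfl fun i _ ↦ Finset.sum_comm
            _ = ∑ l, ∑ i, ∑ j, ∑ m, F i j l m := Finset.sum_comm
            _ = ∑ l, ∑ i, ∑ m, ∑ j, F i j l m :=
                Finset.sum_congr rfl fun l _ ↦ Finset.sum_congr rfl fun i _ ↦ Finset.sum_comm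
            _ = _ := Finset.sum_congr rfl fun l _ ↦ Finset.sum_comm
        rw [e1]
        refine Finset.sum_congr rfl fun l _ ↦ Finset.sum_congr rfl fun m _ ↦
          Finset.sum_congr rfl fun i _ ↦ Finset.sum_congr rfl fun j _ ↦ ?_
        ring
      rw [h4, ← Finset.sum_sub_distrib]
      refine Ideal.sum_mem _ fun l _ ↦ ?_
      rw [← Finset.sum_sub_distrib]
      refine Ideal.sum_mem _ fun m _ ↦ ?_
      rw [← mul_sub]
      exact Ideal.mul_mem_left _ _ (h2 l m)
    have := Ideal.add_mem _ h1 h3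
    rwa [sub_add_sub_cancel] at this
  · intro v hv
    let w : σ → k := fun l ↦ ∑ i, c l i * v i
    -- Hessian applied to `w`
    let u : σ → k := fun l ↦ ∑ m, eval a (pderiv l (pderiv m p)) * w m
    have hu : ∀ i, ∑ l, u l * c l i = 0 := by
      intro i
      have h1 := hv i
      have h2 : ∑ l, u l * c l i = ∑ j, ((∑ l, ∑ m, c l i * (G l m * c m j)) +
          ∑ l, ∑ m, c l j * (G l m * c m i)) * v j := by
        simp only [u, w, hG', add_mul, Finset.sum_add_distrib, Finset.mul_sum, Finset.sum_mul]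
        congr 1
        · rw [Finset.sum_comm (s := (Finset.univ : Finset ι))]
          refine Finset.sum_congr rfl fun l _ ↦ ?_
          rw [Finset.sum_comm]
          refine Finset.sum_congr rfl fun j _ ↦ Finset.sum_congr rfl fun m _ ↦ ?_
          ring
        · calc _ = ∑ l, ∑ m, ∑ j, G m l * (c m j * v j) * c l i := rfl
            _ = ∑ l, ∑ j, ∑ m, G m l * (c m j * v j) * c l i :=
              Finset.sum_congr rfl fun l _ ↦ Finset.sum_comm
            _ = ∑ j, ∑ l, ∑ m, G m l * (c m j * v j) * c l i := Finset.sum_comm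
            _ = ∑ j, ∑ m, ∑ l, G m l * (c m j * v j) * c l i :=
              Finset.sum_congr rfl fun j _ ↦ Finset.sum_comm
            _ = _ := Finset.sum_congr rfl fun j _ ↦ Finset.sum_congr rfl fun m _ ↦
              Finset.sum_congr rfl fun l _ ↦ by ring
      rw [h2, h1]
    have hmem : φ (∑ l, C (u l) * (X l - C (a l))) ∈ maximalIdeal O ^ 2 := by
      rw [map_sum]
      simp_rw [map_mul]
      exact (hlin0 u).2 hu
    rw [← hφ, mem_pow_iff π hπ M a ha (O := O) 2, ← hf,
      mem_sq_sup_span_iff a f (fun b ↦ eval_eq_zero_of_mem_ker π hπ M a ha (by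
        rw [← RingHom.mem_ker, ← hf]; exact Ideal.subset_span ⟨b, rfl⟩))] at hmem
    obtain ⟨-, μ, hμ⟩ := hmem
    have hw : w = 0 := by
      refine hno w μ ?_ ?_
      · intro b
        have hfb : π (f b) = 0 := by
          rw [← RingHom.mem_ker, ← hf]; exact Ideal.subset_span ⟨b, rfl⟩
        have hfa : eval a (f b) = 0 := eval_eq_zero_of_mem_ker π hπ M a ha hfb
        have h1 := taylor_one a (f b)
        rw [hfa, C_0, zero_add] at h1
        have h2 := (mem_pow_iff π hπ M a ha (O := O) 2 _).2 (Ideal.mem_sup_left h1)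
        rw [hφ, map_sub, ← hφ (f b), hfb, map_zero, zero_sub, Ideal.neg_mem_iff, map_sum] at h2
        simp_rw [map_mul] at h2
        have h3 := (hlin0 _).1 h2
        simp only [w, Finset.mul_sum]
        rw [Finset.sum_comm]
        refine Finset.sum_eq_zero fun i _ ↦ ?_
        rw [← zero_mul (v i), ← h3 i, Finset.sum_mul]
        exact Finset.sum_congr rfl fun l _ ↦ by ring
      · intro l
        rw [← hμ l, eval_pderiv_sum, eval_C]
    exact hcinj v fun l ↦ congrFun hw l

end Quad

end Groth.Agent.Lefpen.H702.LocAlg
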