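import Mathlib.Algebra.MvPolynomial.PDeriv
import Mathlib.RingTheory.Ideal.Quotient.Operations
import Mathlib.RingTheory.Ideal.BigOperators
import Mathlib.RingTheory.MvPolynomial.Basic

/-!
# Taylor expansions of polynomials at a point, tangency and Lagrange multipliers

`k` a field, `a : σ → k` a point (`σ` finite), `ptIdeal a` the ideal generated by the `X l - a l`.
* `mem_ptIdeal_iff`: `p ∈ ptIdeal a ↔ p(a) = 0`;
* `mem_ptIdeal_sq_iff`: `p ∈ (ptIdeal a)^2 ↔ p(a) = 0 ∧ ∀ l, (∂_l p)(a) = 0`;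
* `exists_quad`: second order Taylor expansion, in every characteristic;
* `mem_sq_sup_span_iff`: `p ∈ (ptIdeal a)^2 + (f_b)` iff `p(a) = 0` and the gradient of `p` at `a` is a
  combination of the gradients of the `f_b` (Lagrange multipliers).
-/

set_option autoImplicit false

open MvPolynomial

namespace Groth.Agent.Lefpen.H702.AffAlg

variable {k : Type*} [Field k] {σ : Type*}

/-- The ideal of the point `a`. -/
noncomputable def ptIdeal (a : σ → k) : Ideal (MvPolynomial σ k) :=
  Ideal.span (Set.range fun l ↦ (X l - C (a l)))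

theorem X_sub_C_mem (a : σ → k) (l : σ) : (X l - C (a l) : MvPolynomial σ k) ∈ ptIdeal a :=
  Ideal.subset_span ⟨l, rfl⟩

theorem derivation_mem_pow {A M : Type*} [CommRing A] [CommRing M] [Algebra M A] (D : Derivation M A A)
    (J : Ideal A) (n : ℕ) {x : A} (hx : x ∈ J ^ (n + 1)) : D x ∈ J ^ n := by
  induction n generalizing x with
  | zero => simp
  | succ n ih =>
    rw [pow_succ] at hx
    refine Submodule.mul_induction_on hx ?_ ?_
    · intro a ha b hb
      rw [Derivation.leibniz, smul_eq_mul, smul_eq_mul]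
      refine Ideal.add_mem _ (Ideal.mul_mem_right _ _ ha) ?_
      rw [mul_comm, pow_succ]
      exact Ideal.mul_mem_mul (ih ha) hb
    · intro a b ha hb
      rw [map_add]
      exact Ideal.add_mem _ ha hb

theorem derivation_mem_of_mem_sq {A M : Type*} [CommRing A] [CommRing M] [Algebra M A]
    (D : Derivation M A A) (J : Ideal A) {x : A} (hx : x ∈ J ^ 2) : D x ∈ J := by
  have := derivation_mem_pow D J 1 hx
  rwa [pow_one] at this

theorem pderiv_mem_of_mem_sq (a : σ → k) {p : MvPolynomial σ k} (hp : p ∈ ptIdeal a ^ 2) (l : σ) :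
    pderiv l p ∈ ptIdeal a :=
  derivation_mem_of_mem_sq (pderiv l) (ptIdeal a) hp

variable [Fintype σ]

/-- Hadamard's lemma. -/
theorem exists_hadamard (a : σ → k) (p : MvPolynomial σ k) :
    ∃ g : σ → MvPolynomial σ k, p = C (eval a p) + ∑ l, g l * (X l - C (a l)) := by
  classical
  induction p using MvPolynomial.induction_on with
  | C c => exact ⟨0, by simp⟩
  | add p q hp hq =>
    obtain ⟨g, hg⟩ := hp
    obtain ⟨g', hg'⟩ := hq
    refine ⟨g + g', ?_⟩
    conv_lhs => rw [hg, hg']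
    simp only [map_add, Pi.add_apply, add_mul, Finset.sum_add_distrib]
    ring
  | mul_X p n hp =>
    obtain ⟨g, hg⟩ := hp
    refine ⟨fun l ↦ g l * X n + Pi.single (M := fun _ ↦ MvPolynomial σ k) n (C (eval a p)) l, ?_⟩
    simp only [add_mul, Finset.sum_add_distrib]
    have h1 : ∑ l, (Pi.single (M := fun _ ↦ MvPolynomial σ k) n (C (eval a p)) l) * (X l - C (a l)) =
        C (eval a p) * (X n - C (a n)) := by
      rw [Finset.sum_eq_single n]
      · rw [Pi.single_eq_same]
      · intro b _ hb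
        rw [Pi.single_eq_of_ne hb, zero_mul]
      · simp
    have h2 : ∑ l, g l * X n * (X l - C (a l)) = X n * (p - C (eval a p)) := by
      have h3 : ∑ l, g l * (X l - C (a l)) = p - C (eval a p) := by
        rw [eq_sub_iff_add_eq, add_comm]
        exact hg.symm
      rw [← h3, Finset.mul_sum]
      exact Finset.sum_congr rfl fun l _ ↦ by ring
    rw [h1, h2, map_mul, eval_X, C_mul]
    ring

theorem mem_ptIdeal_iff (a : σ → k) (p : MvPolynomial σ k) : p ∈ ptIdeal a ↔ eval a p = 0 := by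
  constructor
  · intro h
    have h1 : ptIdeal a ≤ RingHom.ker (eval a) := by
      rw [ptIdeal, Ideal.span_le]
      rintro _ ⟨l, rfl⟩
      change eval a (X l - C (a l)) = 0
      simp
    exact h1 h
  · intro h
    obtain ⟨g, hg⟩ := exists_hadamard a p
    rw [hg, h, C_0, zero_add]
    exact Ideal.sum_mem _ fun l _ ↦ Ideal.mul_mem_left _ _ (X_sub_C_mem a l)

theorem ptIdeal_eq_ker (a : σ → k) : ptIdeal a = RingHom.ker (eval a) := by
  ext p
  rw [mem_ptIdeal_iff]
  rfl

theorem sub_C_mem (a : σ → k) (p : MvPolynomial σ k) : p - C (eval a p) ∈ ptIdeal a := by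
  rw [mem_ptIdeal_iff]
  simp

instance isMaximal_ptIdeal (a : σ → k) : (ptIdeal a).IsMaximal := by
  rw [ptIdeal_eq_ker]
  refine RingHom.ker_isMaximal_of_surjective _ fun c ↦ ⟨C c, by simp⟩

/-- The value at `a` of the derivative of a linear combination of the `X l - a l`. -/
theorem eval_pderiv_sum (a : σ → k) (g : σ → MvPolynomial σ k) (m : σ) :
    eval a (pderiv m (∑ l, g l * (X l - C (a l)))) = eval a (g m) := by
  classical
  rw [map_sum, map_sum, Finset.sum_eq_single m]
  · simp [Derivation.leibniz]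
  · intro b _ hb
    simp [Derivation.leibniz, pderiv_X, Pi.single_eq_of_ne hb]
  · simp

/-- First order Taylor expansion. -/
theorem taylor_one (a : σ → k) (p : MvPolynomial σ k) :
    p - (C (eval a p) + ∑ l, C (eval a (pderiv l p)) * (X l - C (a l))) ∈ ptIdeal a ^ 2 := by
  classical
  obtain ⟨g, hg⟩ := exists_hadamard a p
  have h3 : ∀ m, eval a (pderiv m p) = eval a (g m) := by
    intro m
    conv_lhs => rw [hg]
    rw [map_add, map_add, eval_pderiv_sum, pderiv_C, map_zero, zero_add]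
  simp_rw [h3]
  have h2 : p - (C (eval a p) + ∑ l, C (eval a (g l)) * (X l - C (a l))) =
      ∑ l, (g l - C (eval a (g l))) * (X l - C (a l)) := by
    simp only [sub_mul, Finset.sum_sub_distrib]
    nth_rewrite 1 [hg]
    ring
  rw [h2, pow_two]
  exact Ideal.sum_mem _ fun l _ ↦ Ideal.mul_mem_mul (sub_C_mem a _) (X_sub_C_mem a l)

theorem mem_ptIdeal_sq_iff (a : σ → k) (p : MvPolynomial σ k) :
    p ∈ ptIdeal a ^ 2 ↔ eval a p = 0 ∧ ∀ l, eval a (pderiv l p) = 0 := by
  constructor
  · intro h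
    exact ⟨(mem_ptIdeal_iff a p).1 (Ideal.pow_le_self two_ne_zero h), fun l ↦
      (mem_ptIdeal_iff a _).1 (pderiv_mem_of_mem_sq a h l)⟩
  · rintro ⟨h1, h2⟩
    have := taylor_one a p
    rw [h1] at this
    simp_rw [h2] at this
    simpa using this

/-- Second order Taylor expansion: the polynomial `p ∈ M_a²` is, modulo `M_a³`, the quadratic form
`∑ G l m ξ_l ξ_m`, `ξ_l = X l - a l`, and `G + Gᵀ` is the Hessian matrix at `a`. -/
theorem exists_quad (a : σ → k) (p : MvPolynomial σ k) (hp : p ∈ ptIdeal a ^ 2) :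
    ∃ G : σ → σ → k, p - ∑ l, ∑ m, C (G l m) * ((X l - C (a l)) * (X m - C (a m))) ∈ ptIdeal a ^ 3 ∧
      ∀ l m, eval a (pderiv l (pderiv m p)) = G l m + G m l := by
  classical
  obtain ⟨g, hg⟩ := exists_hadamard a p
  have h0 : eval a p = 0 := ((mem_ptIdeal_sq_iff a p).1 hp).1
  have hgl : ∀ l, eval a (g l) = 0 := by
    intro m
    have h1 := ((mem_ptIdeal_sq_iff a p).1 hp).2 m
    rw [hg, map_add, map_add, eval_pderiv_sum, pderiv_C, map_zero, zero_add] at h1
    exact h1
  choose g2 hg2 using fun l ↦ exists_hadamard a (g l)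
  let G : σ → σ → k := fun l m ↦ eval a (g2 l m)
  have h1 : p - ∑ l, ∑ m, C (G l m) * ((X l - C (a l)) * (X m - C (a m))) ∈ ptIdeal a ^ 3 := by
    have h2 : p - ∑ l, ∑ m, C (G l m) * ((X l - C (a l)) * (X m - C (a m))) =
        ∑ l, ∑ m, (g2 l m - C (eval a (g2 l m))) * ((X l - C (a l)) * (X m - C (a m))) := by
      conv_lhs => rw [hg, h0, C_0, zero_add]
      rw [← Finset.sum_sub_distrib]
      refine Finset.sum_congr rfl fun l _ ↦ ?_
      conv_lhs => rw [hg2 l, hgl, C_0, zero_add, Finset.sum_mul]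
      rw [← Finset.sum_sub_distrib]
      refine Finset.sum_congr rfl fun m _ ↦ ?_
      ring
    rw [h2, pow_succ']
    refine Ideal.sum_mem _ fun l _ ↦ Ideal.sum_mem _ fun m _ ↦ Ideal.mul_mem_mul (sub_C_mem a _) ?_
    rw [pow_two]
    exact Ideal.mul_mem_mul (X_sub_C_mem a l) (X_sub_C_mem a m)
  refine ⟨G, h1, fun l m ↦ ?_⟩
  have h3 : pderiv l (pderiv m (p - ∑ l, ∑ m, C (G l m) * ((X l - C (a l)) * (X m - C (a m))))) ∈
      ptIdeal a := by
    have h4 := derivation_mem_pow (pderiv m) (ptIdeal a) 2 h1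
    exact pderiv_mem_of_mem_sq a h4 l
  rw [mem_ptIdeal_iff, map_sub, map_sub, map_sub, sub_eq_zero] at h3
  rw [h3]
  -- the derivative of the quadratic form
  have h5 : ∀ m, pderiv m (∑ l, ∑ m, C (G l m) * ((X l - C (a l)) * (X m - C (a m)))) =
      ∑ l, C (G l m + G m l) * (X l - C (a l)) := by
    intro m
    have h6 : ∀ l m', pderiv m (C (G l m') * ((X l - C (a l)) * (X m' - C (a m')))) =
        C (G l m') * (if m' = m then X l - C (a l) else 0) +
        C (G l m') * (if l = m then X m' - C (a m') else 0) := by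
      intro l m'
      rw [pderiv_C_mul, Derivation.leibniz, map_sub, map_sub, pderiv_C, pderiv_C, sub_zero, sub_zero,
        pderiv_X, pderiv_X, smul_eq_mul, smul_eq_mul, mul_add]
      congr 2
      · split_ifs with h
        · subst h; rw [Pi.single_eq_same, mul_one]
        · rw [Pi.single_eq_of_ne h, mul_zero]
      · split_ifs with h
        · subst h; rw [Pi.single_eq_same, mul_one]
        · rw [Pi.single_eq_of_ne h, mul_zero]
    simp_rw [map_sum, h6, Finset.sum_add_distrib, mul_ite, mul_zero, Finset.sum_ite_eq',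
      Finset.mem_univ, if_true]
    rw [Finset.sum_comm (f := fun l x ↦ if l = m then C (G l x) * (X x - C (a x)) else 0)]
    simp_rw [Finset.sum_ite_eq', Finset.mem_univ, if_true]
    rw [← Finset.sum_add_distrib]
    exact Finset.sum_congr rfl fun l _ ↦ by rw [C_add, add_mul]
  rw [h5, eval_pderiv_sum, eval_C]

/-- Lagrange multipliers. -/
theorem mem_sq_sup_span_iff {ι : Type*} [Fintype ι] (a : σ → k) (f : ι → MvPolynomial σ k)
    (hf : ∀ b, eval a (f b) = 0) (p : MvPolynomial σ k) :
    p ∈ ptIdeal a ^ 2 ⊔ Ideal.span (Set.range f) ↔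
      eval a p = 0 ∧ ∃ c : ι → k, ∀ l, eval a (pderiv l p) = ∑ b, c b * eval a (pderiv l (f b)) := by
  constructor
  · intro h
    obtain ⟨q, hq, s, hs, rfl⟩ := Submodule.mem_sup.1 h
    rw [Ideal.span, Submodule.mem_span_range_iff_exists_fun] at hs
    obtain ⟨g, rfl⟩ := hs
    rw [mem_ptIdeal_sq_iff] at hq
    refine ⟨?_, fun b ↦ eval a (g b), fun l ↦ ?_⟩
    · simp [hq.1, hf]
    · simp [hq.2, hf]
  · rintro ⟨h0, c, hc⟩
    have h1 : p - ∑ b, C (c b) * f b ∈ ptIdeal a ^ 2 := by
      rw [mem_ptIdeal_sq_iff]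
      refine ⟨?_, fun l ↦ ?_⟩
      · simp [h0, hf]
      · simp [hc]
    have h2 : p = (p - ∑ b, C (c b) * f b) + ∑ b, C (c b) * f b := by ring
    rw [h2]
    refine Submodule.add_mem_sup h1 ?_
    exact Ideal.sum_mem _ fun b _ ↦ Ideal.mul_mem_left _ _ (Ideal.subset_span ⟨b, rfl⟩)

end Groth.Agent.Lefpen.H702.AffAlg
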