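import Groth.Agent.Lefpen.H702.Generic
import Groth.Agent.Lefpen.H702.PolyFun

/-!
# Genericity from non-dominance

`isGeneric_of_system`: `V` a `k`-vector space with coordinates `c : V ≃ (σ → k)`, `k` infinite.  If every
`v ∉ T` extends to a solution `(c v, p)` of a system of polynomial equations `S`, and over every extension
field `K / k` every solution `(y, p)` of `S` has `y` algebraically dependent over `k`, then `T` is generic.
-/

set_option autoImplicit false

universe u

open MvPolynomial LefPen

namespace Groth.Agent.Lefpen.H702.Engine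

theorem isGeneric_of_system {k : Type u} [Field k] [Infinite k] {V : Type u} [AddCommGroup V]
    [Module k V] {σ τ : Type} (c : V ≃ₗ[k] (σ → k)) (S : Set (MvPolynomial (σ ⊕ τ) k))
    (h : ∀ (K : Type u) [Field K] [Algebra k K] (y : σ → K) (p : τ → K),
      (∀ P ∈ S, aeval (Sum.elim y p) P = 0) → ¬ AlgebraicIndependent k y)
    {T : Set V} (hT : ∀ v, v ∉ T → ∃ p : τ → k, ∀ P ∈ S, aeval (Sum.elim (c v) p) P = 0) :
    IsGeneric k T := by
  obtain ⟨f, hf, hf'⟩ := Generic.exists_polynomial_of_system S h
  refine PolyFun.isGeneric_of_mvPolynomial c hf fun v hv ↦ ?_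
  by_contra hvT
  obtain ⟨p, hp⟩ := hT v hvT
  exact hv (hf' _ p hp)

/-- Coordinates on a product. -/
noncomputable def prodCoords {k : Type u} [Field k] {V W : Type u} [AddCommGroup V] [Module k V]
    [AddCommGroup W] [Module k W] {σ τ : Type} (c : V ≃ₗ[k] (σ → k)) (d : W ≃ₗ[k] (τ → k)) :
    (V × W) ≃ₗ[k] (σ ⊕ τ → k) :=
  (LinearEquiv.prodCongr c d).trans (LinearEquiv.sumArrowLequivProdArrow σ τ k k).symm

theorem prodCoords_apply {k : Type u} [Field k] {V W : Type u} [AddCommGroup V] [Module k V]
    [AddCommGroup W] [Module k W] {σ τ : Type} (c : V ≃ₗ[k] (σ → k)) (d : W ≃ₗ[k] (τ → k))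
    (v : V × W) : prodCoords c d v = Sum.elim (c v.1) (d v.2) := by
  ext (s | t) <;> rfl

/-- In characteristic zero: an algebraically independent pair of families admits derivations with
arbitrary prescribed values on both. -/
theorem exists_derivation_pair {k K : Type*} [Field k] [Field K] [Algebra k K] [CharZero k]
    {σ τ : Type*} (y : σ ⊕ τ → K) (hy : AlgebraicIndependent k y) (u : σ → K) (v : τ → K) :
    ∃ D : Derivation k K K, (∀ s, D (y (Sum.inl s)) = u s) ∧ ∀ t, D (y (Sum.inr t)) = v t := by
  obtain ⟨D, hD⟩ := Generic.exists_derivation y hy (Sum.elim u v)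
  exact ⟨D, fun s ↦ hD (Sum.inl s), fun t ↦ hD (Sum.inr t)⟩

end Groth.Agent.Lefpen.H702.Engine
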