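import Groth.Agent.Lefpen.H702.QuadGeo
import Groth.Agent.Lefpen.H704.OneSing
import Groth.Agent.Lefpen.H705.D2Forward

/-!
# Lefschetz embeddings in characteristic zero

* `isLefschetzEmb_one`: a closed immersion of a smooth irreducible scheme of dimension `n ≥ 1` in projective
  space over an algebraically closed field of characteristic zero is a Lefschetz embedding.
-/

set_option autoImplicit false
universe u

open MvPolynomial LefPen AlgebraicGeometry CategoryTheory

namespace Groth.Agent.Lefpen.H702.Final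

open Groth.Agent.Lefpen.H702.Dict Groth.Agent.Lefpen.H702.Generic Groth.Agent.Lefpen.H702.Tang
open Groth.Agent.Lefpen.H702.PolyFun Groth.Agent.Lefpen.H702.Engine Groth.Agent.Lefpen.H702.Gen
open Groth.Agent.Lefpen.H702.GenGeo Groth.Agent.Lefpen.H702.QuadGeo
open Groth.Agent.Lefpen.H705.SecIdeal Groth.Agent.Lefpen.H705.ChartPoly
open Groth.Agent.Lefpen.H705.PointCoord Groth.Agent.Lefpen.H703.TransCrit
open Groth.Agent.Lefpen.H704.OneSing Groth.Agent.Lefpen.H705.ClosedPoint
open Groth.Agent.Lefpen.H703.ClosedSmooth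
open IsLocalRing Groth.Agent.Sga5

variable {k : Type u} [Field k] {r : ℕ}

variable [IsAlgClosed k] {X : Scheme.{u}} (i : X ⟶ CohB1.ProjSpace r k) [IsClosedImmersion i]
variable (n : ℕ) [SmoothOfRelativeDimension n (i ≫ CohB1.ProjSpace.toSpec r k)]

include i n in
/-- A scheme of positive dimension embeds only in projective spaces of positive dimension. -/
theorem one_le_of_smooth [Nonempty X] (hn : 1 ≤ n) : 1 ≤ r := by
  by_contra hr
  obtain rfl : r = 0 := by omega
  have hsm : Smooth (i ≫ CohB1.ProjSpace.toSpec 0 k) := SmoothOfRelativeDimension.smooth n _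
  have hJ : JacobsonSpace X :=
    LocallyOfFiniteType.jacobsonSpace (i ≫ CohB1.ProjSpace.toSpec 0 k)
  obtain ⟨x, -, hx⟩ : ((Set.univ : Set X) ∩ closedPoints X).Nonempty :=
    nonempty_inter_closedPoints Set.univ_nonempty isOpen_univ.isLocallyClosed
  obtain ⟨x', hx', hne⟩ := exists_closed_ne i n hn x hx
  obtain ⟨j, hj⟩ := Groth.Agent.PerfB.ProjSpaceCover.exists_mem_basicOpen_X 0 k (i x)
  obtain ⟨j', hj'⟩ := Groth.Agent.PerfB.ProjSpaceCover.exists_mem_basicOpen_X 0 k (i x')
  obtain ⟨a, ha, -⟩ := exists_isCoords i j x hj hx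
  obtain ⟨b, hb, -⟩ := exists_isCoords i j' x' hj' hx'
  obtain ⟨m, m', h⟩ := exists_minor_ne_zero i hx' ha hb hne.symm
  apply h
  have : m = m' := Fin.ext (by omega)
  rw [this, sub_self]

include n in
omit [IsClosedImmersion i] in
/-- Membership of the local equation in the square of the maximal ideal is independent of the chart. -/
theorem mem_sq_of_charts {d : ℕ} (H : Form r k d) (x : X) (hxc : IsClosed ({x} : Set X))
    (j j' : Fin (r + 1)) (hj : i x ∈ chart r k j) (hj' : i x ∈ chart r k j')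
    (h : stalkEqn i j x hj H ∈ maximalIdeal (X.presheaf.stalk x) ^ 2) :
    stalkEqn i j' x hj' H ∈ maximalIdeal (X.presheaf.stalk x) ^ 2 := by
  have hsm : Smooth (i ≫ CohB1.ProjSpace.toSpec r k) := SmoothOfRelativeDimension.smooth n _
  have hlft : LocallyOfFiniteType (i ≫ CohB1.ProjSpace.toSpec r k) := inferInstance
  obtain ⟨y, rfl⟩ := exists_sec_point i ({H} : Set (Form r k d)) j x hj (by
    rintro G rfl
    exact Ideal.pow_le_self two_ne_zero h)
  have hy := isClosed_of_secι i _ hxc
  by_contra hcon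
  have h1 := (section_one_regular_iff i n H {H} rfl y hy j' hj').2 hcon
  exact (section_one_regular_iff i n H {H} rfl y hy j hj).1 h1 h

omit [IsAlgClosed k] in
theorem linCoords_add_smul (F G : Form r k 1) (c : k) :
    (linCoords r k (F + c • G) : Fin (r + 1) → k) = fun m ↦
      linCoords r k F m + c * linCoords r k G m := by
  ext m
  rw [map_add, map_smul]
  rfl

variable [CharZero k]

theorem isLefschetzEmb_one [IrreducibleSpace X] (hn : 1 ≤ n) : IsLefschetzEmb k n i 1 := by
  have hr : 1 ≤ r := one_le_of_smooth i n hn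
  obtain ⟨m, rfl⟩ : ∃ m, n = m + 1 := ⟨n - 1, by omega⟩
  choose s f hf using fun j ↦ exists_equations i j
  obtain ⟨D, hD, hD0, hD1⟩ := generic_transversal_one i (m + 1)
  have hDgen : IsGeneric k {H : Form r k 1 | D H ≠ 0} := ⟨D, hD, hD0, fun v hv ↦ hv⟩
  have hfst : IsGeneric k {FG : Form r k 1 × Form r k 1 | D FG.1 ≠ 0} :=
    IsGeneric.preimage (LinearMap.fst k (Form r k 1) (Form r k 1)) LinearMap.fst_surjective hDgen
  have hsnd : IsGeneric k {FG : Form r k 1 × Form r k 1 | D FG.2 ≠ 0} :=
    IsGeneric.preimage (LinearMap.snd k (Form r k 1) (Form r k 1)) LinearMap.snd_surjective hDgen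
  have hall := IsGeneric.inter (IsGeneric.inter
    (IsGeneric.inter (generic_linearIndependent (k := k) hr) (generic_transversal_two i (m + 1)))
    (IsGeneric.inter hfst hsnd)) (IsGeneric.inter (IsGeneric.iInter fun j ↦ gen_deg j (f j))
      (IsGeneric.iInter fun jj : Fin (r + 1) × Fin (r + 1) ↦
        gen_two jj.1 (f jj.1) jj.2 (f jj.2)))
  refine IsGeneric.mono hall ?_
  rintro ⟨F, G⟩ ⟨⟨⟨hLI, hT2⟩, hF, hG⟩, hdeg, htwo⟩
  rw [Set.mem_iInter] at hdeg htwo
  refine ⟨hLI, hT2, ?_, ?_⟩
  · refine (IsPolyFun.finite_zeros_line hD F G (t₀ := 0) (by simpa using hF)).subset ?_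
    intro c hc
    by_contra hcon
    exact hc (hD1 _ hcon)
  · intro H hH hnT
    rcases hH with hH | ⟨c, rfl⟩
    · rw [Set.mem_singleton_iff] at hH
      subst hH
      exact absurd (hD1 _ hG) hnT
    · have hcrit := hnT
      dsimp only at hcrit ⊢
      rw [transversal_one_iff i (m + 1)] at hcrit
      push Not at hcrit
      obtain ⟨x, hxc, j, hx, hmem⟩ := hcrit
      obtain ⟨a, ha, -⟩ := exists_isCoords i j x hx hxc
      obtain ⟨lam, hlam⟩ := isTang_of_mem_sq hxc ha (hf j) _ hmem
      have hDeg : ∀ (w : Fin r → k) (mu : Fin (s j) → k), IsDeg (f j) a lam w mu → w = 0 := by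
        intro w mu hw
        refine hdeg j a lam c w mu ?_ hw
        rw [linCoords_add_smul] at hlam
        exact hlam
      obtain ⟨t, Q, ht, hQ, hnd⟩ := exists_quadPart (m := m) hxc ha (hf j) _ hlam hDeg
      obtain ⟨y, hy, hy'⟩ := Groth.Agent.Lefpen.H705.D2Forward.exists_isOrdQuadSing_of_jet i m _ x hxc j hx
        (Ideal.pow_le_self two_ne_zero hmem) t ht Q hQ hnd
      rw [oneOrdQuad_iff i (m + 1) hn]
      refine ⟨y, hy', ?_⟩
      intro x' hx'c j' hx'
      rw [hy]
      constructor
      · intro hmem'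
        by_contra hne
        obtain ⟨b, hb, -⟩ := exists_isCoords i j' x' hx' hx'c
        obtain ⟨lam', hlam'⟩ := isTang_of_mem_sq hx'c hb (hf j') _ hmem'
        obtain ⟨p, q, hpq⟩ := exists_minor_ne_zero i hx'c ha hb (Ne.symm hne)
        apply hpq
        rw [linCoords_add_smul] at hlam hlam'
        exact htwo (j, j') a lam c b lam' hlam hlam' p q
      · rintro rfl
        exact mem_sq_of_charts i (m + 1) _ _ hxc j j' hx hx' hmem

end Groth.Agent.Lefpen.H702.Final
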