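import Groth.Agent.Lefpen.H702.Tang
import Mathlib.Algebra.CharZero.Infinite

/-!
# Generic pencils of linear forms in characteristic zero, in classical coordinates

For an affine scheme `f_b = 0` in the chart `j` of `P^r_k` (`k` of characteristic zero):
* `gen_one`: a generic linear form is nowhere tangent;
* `gen_base`: for a generic pair `(F, G)` no nontrivial combination of `F, G` is tangent at a point of the
  base locus;
* `gen_deg`: for a generic pair no `F + c G` is tangent with a degenerate Hessian;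
* `gen_two`: for a generic pair no `F + c G` is tangent at two distinct points.
-/

set_option autoImplicit false
universe u

open MvPolynomial LefPen

namespace Groth.Agent.Lefpen.H702.Gen

open Groth.Agent.Lefpen.H702.Dict Groth.Agent.Lefpen.H702.Generic Groth.Agent.Lefpen.H702.Tang
open Groth.Agent.Lefpen.H702.PolyFun Groth.Agent.Lefpen.H702.Engine

variable {k : Type u} [Field k] [CharZero k] {r s : ℕ} (j : Fin (r + 1))
  (f : Fin s → MvPolynomial (Fin r) k)

theorem gen_one : IsGeneric k {H : Form r k 1 | ∀ (x : Fin r → k) (lam : Fin s → k),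
    ¬ IsTang j f (linCoords r k H) x lam} := by
  have : Infinite k := inferInstance
  let H : Fin (r + 1) → MvPolynomial (Fin (r + 1) ⊕ (Fin r ⊕ Fin s)) k := fun m ↦ X (Sum.inl m)
  let x : Fin r → MvPolynomial (Fin (r + 1) ⊕ (Fin r ⊕ Fin s)) k := fun l ↦ X (Sum.inr (Sum.inl l))
  let lam : Fin s → MvPolynomial (Fin (r + 1) ⊕ (Fin r ⊕ Fin s)) k := fun b ↦ X (Sum.inr (Sum.inr b))
  have hH : ∀ (K : Type u) [Field K] [Algebra k K] (y : Fin (r + 1) → K) (p : Fin r ⊕ Fin s → K),
      (aeval (R := k) (Sum.elim y p)) ∘ H = y := by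
    intro K _ _ y p; ext m; simp [H]
  refine isGeneric_of_system (linCoords r k) (tangSet j f H x lam) ?_ ?_
  · intro K _ _ y p hyp hind
    rw [tangSet_iff, hH] at hyp
    exact not_tang_of_algebraicIndependent hind hyp
  · intro v hv
    rw [Set.mem_ofPred_eq] at hv
    push Not at hv
    obtain ⟨x', lam', h⟩ := hv
    refine ⟨Sum.elim x' lam', ?_⟩
    rw [tangSet_iff, hH]
    convert h using 1
    · ext l; simp [x]
    · ext b; simp [lam]

theorem gen_base : IsGeneric k {FG : Form r k 1 × Form r k 1 |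
    ∀ (x : Fin r → k) (lam : Fin s → k) (α β : k),
      ∑ m, linCoords r k FG.1 m * homCoords j x m = 0 →
      ∑ m, linCoords r k FG.2 m * homCoords j x m = 0 →
      IsTang j f (fun m ↦ α * linCoords r k FG.1 m + β * linCoords r k FG.2 m) x lam →
      α = 0 ∧ β = 0} := by
  have : Infinite k := inferInstance
  let σ := Fin (r + 1) ⊕ Fin (r + 1)
  let τ := Fin r ⊕ (Fin s ⊕ Fin 4)
  let F : Fin (r + 1) → MvPolynomial (σ ⊕ τ) k := fun m ↦ X (Sum.inl (Sum.inl m))
  let G : Fin (r + 1) → MvPolynomial (σ ⊕ τ) k := fun m ↦ X (Sum.inl (Sum.inr m))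
  let x : Fin r → MvPolynomial (σ ⊕ τ) k := fun l ↦ X (Sum.inr (Sum.inl l))
  let lam : Fin s → MvPolynomial (σ ⊕ τ) k := fun b ↦ X (Sum.inr (Sum.inr (Sum.inl b)))
  let par : Fin 4 → MvPolynomial (σ ⊕ τ) k := fun b ↦ X (Sum.inr (Sum.inr (Sum.inr b)))
  let H : Fin (r + 1) → MvPolynomial (σ ⊕ τ) k := fun m ↦ par 0 * F m + par 1 * G m
  refine isGeneric_of_system (prodCoords (linCoords r k) (linCoords r k))
    (tangSet j f H x lam ∪ ({∑ m, F m * homCoords j x m} ∪ ({∑ m, G m * homCoords j x m} ∪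
      {par 2 * par 0 + par 3 * par 1 - 1}))) ?_ ?_
  · intro K _ _ y p hyp hind
    simp only [Set.mem_union, or_imp, forall_and, Set.mem_singleton_iff, forall_eq] at hyp
    obtain ⟨h1, h2, h3, h4⟩ := hyp
    rw [tangSet_iff] at h1
    rw [map_sum] at h2 h3
    simp only [map_mul, map_homCoords, map_sub, map_add, map_one] at h2 h3 h4
    have h5 : (aeval (R := k) (Sum.elim y p)) ∘ H = fun m ↦
        aeval (R := k) (Sum.elim y p) (par 0) * y (Sum.inl m) +
        aeval (R := k) (Sum.elim y p) (par 1) * y (Sum.inr m) := by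
      ext m; simp [H, F, G]
    rw [h5] at h1
    obtain ⟨h6, h7⟩ := base_contradiction hind _ _ (by simpa [F] using h2) (by simpa [G] using h3) h1
    rw [h6, h7] at h4
    simp at h4
  · intro v hv
    rw [Set.mem_ofPred_eq] at hv
    push Not at hv
    obtain ⟨x', lam', α, β, h1, h2, h3, h4⟩ := hv
    obtain ⟨u, v', huv⟩ : ∃ u v' : k, u * α + v' * β = 1 := by
      by_cases hα : α = 0
      · have hβ := h4 hα
        exact ⟨0, β⁻¹, by rw [zero_mul, zero_add, inv_mul_cancel₀ hβ]⟩
      · exact ⟨α⁻¹, 0, by rw [zero_mul, add_zero, inv_mul_cancel₀ hα]⟩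
    refine ⟨Sum.elim x' (Sum.elim lam' ![α, β, u, v']), ?_⟩
    rw [prodCoords_apply]
    simp only [Set.mem_union, or_imp, forall_and, Set.mem_singleton_iff, forall_eq]
    rw [tangSet_iff]
    have hx : (aeval (R := k) (Sum.elim (Sum.elim (linCoords r k v.1) (linCoords r k v.2))
        (Sum.elim x' (Sum.elim lam' ![α, β, u, v'])))) ∘ x = x' := by ext l; simp [x]
    refine ⟨?_, ?_, ?_, ?_⟩
    · convert h3 using 1
      · ext m; simp [H, F, G, par]
      · ext b; simp [lam]
    · rw [map_sum]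
      simp only [map_mul, map_homCoords]
      rw [hx]
      simpa [F] using h1
    · rw [map_sum]
      simp only [map_mul, map_homCoords]
      rw [hx]
      simpa [G] using h2
    · simp [par, huv]

theorem gen_deg : IsGeneric k {FG : Form r k 1 × Form r k 1 |
    ∀ (x : Fin r → k) (lam : Fin s → k) (c : k) (w : Fin r → k) (mu : Fin s → k),
      IsTang j f (fun m ↦ linCoords r k FG.1 m + c * linCoords r k FG.2 m) x lam →
      IsDeg f x lam w mu → w = 0} := by
  have : Infinite k := inferInstance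
  have key : ∀ l : Fin r, IsGeneric k {FG : Form r k 1 × Form r k 1 |
    ∀ (x : Fin r → k) (lam : Fin s → k) (c : k) (w : Fin r → k) (mu : Fin s → k),
      IsTang j f (fun m ↦ linCoords r k FG.1 m + c * linCoords r k FG.2 m) x lam →
      IsDeg f x lam w mu → w l = 0} := by
    intro l₀
    let σ := Fin (r + 1) ⊕ Fin (r + 1)
    let τ := Fin r ⊕ (Fin s ⊕ (Fin r ⊕ (Fin s ⊕ Fin 2)))
    let F : Fin (r + 1) → MvPolynomial (σ ⊕ τ) k := fun m ↦ X (Sum.inl (Sum.inl m))
    let G : Fin (r + 1) → MvPolynomial (σ ⊕ τ) k := fun m ↦ X (Sum.inl (Sum.inr m))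
    let x : Fin r → MvPolynomial (σ ⊕ τ) k := fun l ↦ X (Sum.inr (Sum.inl l))
    let lam : Fin s → MvPolynomial (σ ⊕ τ) k := fun b ↦ X (Sum.inr (Sum.inr (Sum.inl b)))
    let w : Fin r → MvPolynomial (σ ⊕ τ) k := fun b ↦ X (Sum.inr (Sum.inr (Sum.inr (Sum.inl b))))
    let mu : Fin s → MvPolynomial (σ ⊕ τ) k :=
      fun b ↦ X (Sum.inr (Sum.inr (Sum.inr (Sum.inr (Sum.inl b)))))
    let par : Fin 2 → MvPolynomial (σ ⊕ τ) k :=
      fun b ↦ X (Sum.inr (Sum.inr (Sum.inr (Sum.inr (Sum.inr b)))))
    let H : Fin (r + 1) → MvPolynomial (σ ⊕ τ) k := fun m ↦ F m + par 0 * G m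
    refine isGeneric_of_system (prodCoords (linCoords r k) (linCoords r k))
      (tangSet j f H x lam ∪ (degSet f x lam w mu ∪ {par 1 * w l₀ - 1})) ?_ ?_
    · intro K _ _ y p hyp hind
      simp only [Set.mem_union, or_imp, forall_and, Set.mem_singleton_iff, forall_eq] at hyp
      obtain ⟨h1, h2, h3⟩ := hyp
      rw [tangSet_iff] at h1
      rw [degSet_iff] at h2
      simp only [map_mul, map_sub, map_one] at h3
      have h5 : (aeval (R := k) (Sum.elim y p)) ∘ H = fun m ↦ y (Sum.inl m) +
          aeval (R := k) (Sum.elim y p) (par 0) * y (Sum.inr m) := by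
        ext m; simp [H, F, G]
      rw [h5] at h1
      set x' := (aeval (R := k) (Sum.elim y p)) ∘ x
      set w' := (aeval (R := k) (Sum.elim y p)) ∘ w with hw'
      refine pencil_contradiction hind (aeval (R := k) (Sum.elim y p) (par 0)) (homCoords j x')
        (j.insertNth (α := fun _ ↦ K) 0 w') j (j.succAbove l₀) ?_ (fun D ↦ tang_deriv h1 D)
        (fun D ↦ ?_)
      · simp only [homCoords_self, one_mul, Fin.insertNth_apply_succAbove,
          Fin.insertNth_apply_same, mul_zero, sub_zero]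
        intro h0
        have h6 : aeval (R := k) (Sum.elim y p) (w l₀) = 0 := h0
        rw [h6] at h3
        simp at h3
      · have h6 := deg_deriv h1 h2 D
        rw [Fin.sum_univ_succAbove _ j]
        simpa using h6
    · intro v hv
      rw [Set.mem_ofPred_eq] at hv
      push Not at hv
      obtain ⟨x', lam', c, w', mu', h1, h2, h3⟩ := hv
      refine ⟨Sum.elim x' (Sum.elim lam' (Sum.elim w' (Sum.elim mu' ![c, (w' l₀)⁻¹]))), ?_⟩
      rw [prodCoords_apply]
      simp only [Set.mem_union, or_imp, forall_and, Set.mem_singleton_iff, forall_eq]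
      rw [tangSet_iff, degSet_iff]
      have hx : (aeval (R := k) (Sum.elim (Sum.elim (linCoords r k v.1) (linCoords r k v.2))
        (Sum.elim x' (Sum.elim lam' (Sum.elim w' (Sum.elim mu' ![c, (w' l₀)⁻¹])))))) ∘ x = x' := by
        ext l; simp [x]
      have hlam : (aeval (R := k) (Sum.elim (Sum.elim (linCoords r k v.1) (linCoords r k v.2))
        (Sum.elim x' (Sum.elim lam' (Sum.elim w' (Sum.elim mu' ![c, (w' l₀)⁻¹])))))) ∘ lam = lam' := by
        ext l; simp [lam]
      rw [hx, hlam]
      refine ⟨?_, ?_, ?_⟩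
      · convert h1 using 1
        ext m; simp [H, F, G, par]
      · convert h2 using 1
        · ext m; simp [w]
        · ext m; simp [mu]
      · simp [par, w, h3]
  refine IsGeneric.mono (IsGeneric.iInter key) ?_
  intro FG hFG x lam c w mu h1 h2
  ext l
  rw [Set.mem_iInter] at hFG
  exact hFG l x lam c w mu h1 h2

theorem gen_two {s' : ℕ} (j' : Fin (r + 1)) (f' : Fin s' → MvPolynomial (Fin r) k) :
    IsGeneric k {FG : Form r k 1 × Form r k 1 |
    ∀ (x : Fin r → k) (lam : Fin s → k) (c : k) (y : Fin r → k) (lam' : Fin s' → k),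
      IsTang j f (fun m ↦ linCoords r k FG.1 m + c * linCoords r k FG.2 m) x lam →
      IsTang j' f' (fun m ↦ linCoords r k FG.1 m + c * linCoords r k FG.2 m) y lam' →
      ∀ m m', homCoords j x m * homCoords j' y m' - homCoords j x m' * homCoords j' y m = 0} := by
  have : Infinite k := inferInstance
  have key : ∀ mm : Fin (r + 1) × Fin (r + 1), IsGeneric k {FG : Form r k 1 × Form r k 1 |
    ∀ (x : Fin r → k) (lam : Fin s → k) (c : k) (y : Fin r → k) (lam' : Fin s' → k),
      IsTang j f (fun m ↦ linCoords r k FG.1 m + c * linCoords r k FG.2 m) x lam →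
      IsTang j' f' (fun m ↦ linCoords r k FG.1 m + c * linCoords r k FG.2 m) y lam' →
      homCoords j x mm.1 * homCoords j' y mm.2 - homCoords j x mm.2 * homCoords j' y mm.1 = 0} := by
    rintro ⟨m₁, m₂⟩
    let σ := Fin (r + 1) ⊕ Fin (r + 1)
    let τ := Fin r ⊕ (Fin s ⊕ (Fin r ⊕ (Fin s' ⊕ Fin 2)))
    let F : Fin (r + 1) → MvPolynomial (σ ⊕ τ) k := fun m ↦ X (Sum.inl (Sum.inl m))
    let G : Fin (r + 1) → MvPolynomial (σ ⊕ τ) k := fun m ↦ X (Sum.inl (Sum.inr m))
    let x : Fin r → MvPolynomial (σ ⊕ τ) k := fun l ↦ X (Sum.inr (Sum.inl l))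
    let lam : Fin s → MvPolynomial (σ ⊕ τ) k := fun b ↦ X (Sum.inr (Sum.inr (Sum.inl b)))
    let y : Fin r → MvPolynomial (σ ⊕ τ) k := fun b ↦ X (Sum.inr (Sum.inr (Sum.inr (Sum.inl b))))
    let lam' : Fin s' → MvPolynomial (σ ⊕ τ) k :=
      fun b ↦ X (Sum.inr (Sum.inr (Sum.inr (Sum.inr (Sum.inl b)))))
    let par : Fin 2 → MvPolynomial (σ ⊕ τ) k :=
      fun b ↦ X (Sum.inr (Sum.inr (Sum.inr (Sum.inr (Sum.inr b)))))
    let H : Fin (r + 1) → MvPolynomial (σ ⊕ τ) k := fun m ↦ F m + par 0 * G m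
    refine isGeneric_of_system (prodCoords (linCoords r k) (linCoords r k))
      (tangSet j f H x lam ∪ (tangSet j' f' H y lam' ∪
        {par 1 * (homCoords j x m₁ * homCoords j' y m₂ - homCoords j x m₂ * homCoords j' y m₁) - 1}))
      ?_ ?_
    · intro K _ _ z p hyp hind
      simp only [Set.mem_union, or_imp, forall_and, Set.mem_singleton_iff, forall_eq] at hyp
      obtain ⟨h1, h2, h3⟩ := hyp
      rw [tangSet_iff] at h1 h2
      simp only [map_mul, map_sub, map_one, map_homCoords] at h3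
      have h5 : (aeval (R := k) (Sum.elim z p)) ∘ H = fun m ↦ z (Sum.inl m) +
          aeval (R := k) (Sum.elim z p) (par 0) * z (Sum.inr m) := by
        ext m; simp [H, F, G]
      rw [h5] at h1 h2
      refine pencil_contradiction hind (aeval (R := k) (Sum.elim z p) (par 0)) _ _ m₁ m₂ ?_
        (fun D ↦ tang_deriv h1 D) (fun D ↦ tang_deriv h2 D)
      intro h0
      rw [h0] at h3
      simp at h3
    · intro v hv
      rw [Set.mem_ofPred_eq] at hv
      push Not at hv
      obtain ⟨x', lam₁, c, y', lam₂, h1, h2, h3⟩ := hv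
      refine ⟨Sum.elim x' (Sum.elim lam₁ (Sum.elim y' (Sum.elim lam₂ ![c,
        (homCoords j x' m₁ * homCoords j' y' m₂ - homCoords j x' m₂ * homCoords j' y' m₁)⁻¹]))), ?_⟩
      rw [prodCoords_apply]
      simp only [Set.mem_union, or_imp, forall_and, Set.mem_singleton_iff, forall_eq]
      rw [tangSet_iff, tangSet_iff]
      simp only [map_mul, map_sub, map_one, map_homCoords]
      have hx : (aeval (R := k) (Sum.elim (Sum.elim (linCoords r k v.1) (linCoords r k v.2))
        (Sum.elim x' (Sum.elim lam₁ (Sum.elim y' (Sum.elim lam₂ ![c, (homCoords j x' m₁ *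
          homCoords j' y' m₂ - homCoords j x' m₂ * homCoords j' y' m₁)⁻¹])))))) ∘ x = x' := by
        ext l; simp [x]
      have hy : (aeval (R := k) (Sum.elim (Sum.elim (linCoords r k v.1) (linCoords r k v.2))
        (Sum.elim x' (Sum.elim lam₁ (Sum.elim y' (Sum.elim lam₂ ![c, (homCoords j x' m₁ *
          homCoords j' y' m₂ - homCoords j x' m₂ * homCoords j' y' m₁)⁻¹])))))) ∘ y = y' := by
        ext l; simp [y]
      rw [hx, hy]
      refine ⟨?_, ?_, ?_⟩
      · convert h1 using 1
        · ext m; simp [H, F, G, par]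
        · ext m; simp [lam]
      · convert h2 using 1
        · ext m; simp [H, F, G, par]
        · ext m; simp [lam']
      · simp only [par, aeval_X, Sum.elim_inr, Matrix.cons_val_one, Matrix.cons_val_fin_one]
        rw [inv_mul_cancel₀ h3, sub_self]
  refine IsGeneric.mono (IsGeneric.iInter key) ?_
  intro FG hFG x lam c y lam' h1 h2 m m'
  rw [Set.mem_iInter] at hFG
  exact hFG (m, m') x lam c y lam' h1 h2

end Groth.Agent.Lefpen.H702.Gen
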