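import Groth.Agent.Lefpen.H702.Gen
import Groth.Agent.Lefpen.H703.TransCrit
import Mathlib.LinearAlgebra.LinearIndependent.Lemmas

/-!
# Generic transversality of linear sections in characteristic zero

* `isTang_of_mem_sq`: a closed point of `X` at which the local equation of a linear form lies in the square
  of the maximal ideal gives a solution of the system `IsTang`.
* `generic_transversal_one`, `generic_transversal_two`, `generic_linearIndependent`.
-/

set_option autoImplicit false
universe u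

open MvPolynomial LefPen AlgebraicGeometry CategoryTheory

namespace Groth.Agent.Lefpen.H702.GenGeo

open Groth.Agent.Lefpen.H702.Dict Groth.Agent.Lefpen.H702.Generic Groth.Agent.Lefpen.H702.Tang
open Groth.Agent.Lefpen.H702.PolyFun Groth.Agent.Lefpen.H702.Engine Groth.Agent.Lefpen.H702.Gen
open Groth.Agent.Lefpen.H705.SecIdeal Groth.Agent.Lefpen.H705.ChartPoly
open Groth.Agent.Lefpen.H705.PointCoord Groth.Agent.Lefpen.H703.TransCrit
open IsLocalRing Groth.Agent.Sga5

variable {k : Type u} [Field k] {r : ℕ}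

/-- Derivatives of the dehomogenization of a linear form. -/
theorem pderiv_dehom_lin (j : Fin (r + 1)) (G : Form r k 1) (l : Fin r) :
    pderiv l (ProjChart.dehom r k j G.1) = C (linCoords r k G (j.succAbove l)) := by
  classical
  have h1 : ProjChart.dehom r k j G.1 = C (linCoords r k G j) +
      ∑ l, C (linCoords r k G (j.succAbove l)) * X l := by
    conv_lhs => rw [eq_sum_linCoords G]
    rw [map_sum, Fin.sum_univ_succAbove _ j]
    simp
  rw [h1, map_add, map_sum, pderiv_C, zero_add, Finset.sum_eq_single l]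
  · simp
  · intro b _ hb
    simp [pderiv_X, hb]
  · simp

theorem eval_lin (G : Form r k 1) (v : Fin (r + 1) → k) :
    eval v G.1 = ∑ l, linCoords r k G l * v l := by
  have := aeval_eq_sum_linCoords (A := k) G v
  simpa using this

variable [IsAlgClosed k] {X : Scheme.{u}} {i : X ⟶ CohB1.ProjSpace r k} [IsClosedImmersion i]

/-- Tangency at a closed point in classical coordinates. -/
theorem isTang_of_mem_sq {j : Fin (r + 1)} {x : X} {hx : i x ∈ LefPen.chart r k j}
    (hxc : IsClosed ({x} : Set X)) {a : Fin r → k} (ha : IsCoords i j x hx a) {s : ℕ}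
    {f : Fin s → MvPolynomial (Fin r) k} (hf : Ideal.span (Set.range f) = RingHom.ker (chartHom i j))
    (H : Form r k 1) (h : stalkEqn i j x hx H ∈ maximalIdeal (X.presheaf.stalk x) ^ 2) :
    ∃ lam : Fin s → k, IsTang j f (linCoords r k H) a lam := by
  rw [stalkEqn_eq, ha.mem_sq_iff hxc f hf] at h
  obtain ⟨h1, lam, h2⟩ := h
  refine ⟨lam, fun b ↦ ?_, ?_, fun l ↦ ?_⟩
  · rw [aeval_eq_eval]
    refine ha.eval_eq_zero ?_
    rw [← RingHom.mem_ker, ← hf]
    exact Ideal.subset_span ⟨b, rfl⟩
  · rw [← eval_lin, ← eval_dehom]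
    exact h1
  · have := h2 l
    rw [pderiv_dehom_lin, eval_C] at this
    rw [this]
    rfl

theorem sum_eq_zero_of_mem {j : Fin (r + 1)} {x : X} {hx : i x ∈ LefPen.chart r k j}
    {a : Fin r → k} (ha : IsCoords i j x hx a)
    (H : Form r k 1) (h : stalkEqn i j x hx H ∈ maximalIdeal (X.presheaf.stalk x)) :
    ∑ m, linCoords r k H m * homCoords j a m = 0 := by
  rw [← eval_lin]
  exact (ha.stalkEqn_mem_iff H).1 h

variable (i) in
/-- `stalkEqn` is linear in the form. -/
theorem stalkEqn_comb (j : Fin (r + 1)) (x : X) (hx : i x ∈ LefPen.chart r k j) {d : ℕ}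
    (F G : Form r k d) (a b : k) :
    toStalk k (i ≫ CohB1.ProjSpace.toSpec r k) x a * stalkEqn i j x hx F +
      toStalk k (i ≫ CohB1.ProjSpace.toSpec r k) x b * stalkEqn i j x hx G =
      stalkEqn i j x hx (a • F + b • G) := by
  rw [← coordHom_C i j x hx, ← coordHom_C i j x hx, stalkEqn_eq, stalkEqn_eq, stalkEqn_eq,
    ← map_mul, ← map_mul, ← map_add]
  congr 1
  change _ = ProjChart.dehom r k j (a • F.1 + b • G.1)
  rw [map_add, smul_eq_C_mul, smul_eq_C_mul, map_mul, map_mul, ProjChart.dehom_C, ProjChart.dehom_C]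

variable (i) (n : ℕ) [SmoothOfRelativeDimension n (i ≫ CohB1.ProjSpace.toSpec r k)] [CharZero k]

theorem generic_transversal_one :
    IsGeneric k {H : Form r k 1 | Transversal k n 1 (secToSpec i {H})} := by
  choose s f hf using fun j ↦ exists_equations i j
  refine IsGeneric.mono (IsGeneric.iInter fun j ↦ gen_one j (f j)) ?_
  intro H hH
  rw [Set.mem_iInter] at hH
  rw [Set.mem_ofPred_eq, transversal_one_iff i n H]
  intro x hxc j hx hmem
  obtain ⟨a, ha, -⟩ := exists_isCoords i j x hx hxc
  obtain ⟨lam, hlam⟩ := isTang_of_mem_sq hxc ha (hf j) H hmem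
  exact hH j a lam hlam

theorem generic_transversal_two :
    IsGeneric k {FG : Form r k 1 × Form r k 1 | Transversal k n 2 (secToSpec i {FG.1, FG.2})} := by
  choose s f hf using fun j ↦ exists_equations i j
  refine IsGeneric.mono (IsGeneric.iInter fun j ↦ gen_base j (f j)) ?_
  intro FG hFG
  rw [Set.mem_iInter] at hFG
  rw [Set.mem_ofPred_eq, transversal_two_iff i n FG.1 FG.2]
  intro x hxc j hx hF hG α β hmem
  obtain ⟨a, ha, -⟩ := exists_isCoords i j x hx hxc
  rw [stalkEqn_comb] at hmem
  obtain ⟨lam, hlam⟩ := isTang_of_mem_sq hxc ha (hf j) _ hmem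
  have h1 : (linCoords r k (α • FG.1 + β • FG.2) : Fin (r + 1) → k) = fun m ↦
      α * linCoords r k FG.1 m + β * linCoords r k FG.2 m := by
    ext m
    rw [map_add, map_smul, map_smul]
    rfl
  rw [h1] at hlam
  exact hFG j a lam α β (sum_eq_zero_of_mem ha _ hF) (sum_eq_zero_of_mem ha _ hG) hlam

omit [IsAlgClosed k] in
theorem generic_linearIndependent (hr : 1 ≤ r) :
    IsGeneric k {FG : Form r k 1 × Form r k 1 | LinearIndependent k ![FG.1, FG.2]} := by
  let m₀ : Fin (r + 1) := 0
  let m₁ : Fin (r + 1) := ⟨1, by omega⟩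
  have hm : m₀ ≠ m₁ := by
    intro h
    have := congrArg Fin.val h
    simp [m₀, m₁] at this
  let L : Fin (r + 1) → Module.Dual k (Form r k 1) := fun m ↦
    (LinearMap.proj m).comp (linCoords r k).toLinearMap
  refine ⟨fun FG ↦ L m₀ FG.1 * L m₁ FG.2 - L m₁ FG.1 * L m₀ FG.2, ?_, ?_, ?_⟩
  · have hfst : ∀ m, IsPolyFun k (fun FG : Form r k 1 × Form r k 1 ↦ L m FG.1) := fun m ↦
      isPolyFun_dual ((L m).comp (LinearMap.fst k (Form r k 1) (Form r k 1)))
    have hsnd : ∀ m, IsPolyFun k (fun FG : Form r k 1 × Form r k 1 ↦ L m FG.2) := fun m ↦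
      isPolyFun_dual ((L m).comp (LinearMap.snd k (Form r k 1) (Form r k 1)))
    exact IsPolyFun.sub (IsPolyFun.mul (hfst m₀) (hsnd m₁)) (IsPolyFun.mul (hfst m₁) (hsnd m₀))
  · refine ⟨((linCoords r k).symm (Pi.single m₀ 1), (linCoords r k).symm (Pi.single m₁ 1)), ?_⟩
    simp [L, hm, hm.symm, Pi.single_apply]
  · rintro ⟨F, G⟩ h
    rw [Set.mem_ofPred_eq, LinearIndependent.pair_iff]
    intro a b hab
    have h1 : ∀ m, a * L m F + b * L m G = 0 := by
      intro m
      have := congrArg (L m) hab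
      simpa using this
    dsimp only at h
    have ha : a * (L m₀ F * L m₁ G - L m₁ F * L m₀ G) = 0 := by
      linear_combination L m₁ G * h1 m₀ - L m₀ G * h1 m₁
    have hb : b * (L m₀ F * L m₁ G - L m₁ F * L m₀ G) = 0 := by
      linear_combination L m₀ F * h1 m₁ - L m₁ F * h1 m₀
    exact ⟨(mul_eq_zero.1 ha).resolve_right h, (mul_eq_zero.1 hb).resolve_right h⟩

end Groth.Agent.Lefpen.H702.GenGeo
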