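import Mathlib.RingTheory.Smooth.Field
import Mathlib.RingTheory.Etale.Kaehler
import Mathlib.RingTheory.AlgebraicIndependent.TranscendenceBasis
import Mathlib.RingTheory.AlgebraicIndependent.Basic
import Mathlib.RingTheory.Ideal.MinimalPrime.Localization
import Mathlib.Algebra.MvPolynomial.Derivation
import Mathlib.Algebra.MvPolynomial.PDeriv

/-!
# Genericity engine

* `exists_ne_zero_of_forall_field`: a `k`-algebra map `φ : P → R` from a domain, such that for every
  field `K` and every `k`-algebra map `ψ : R → K` the composite `ψ ∘ φ` is not injective, is not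
  injective.
* `exists_polynomial_of_system`: if every solution `(y, p)` over an extension field `K / k` of a
  system of polynomial equations has its `y`-part algebraically dependent over `k`, then some nonzero
  polynomial over `k` vanishes at the `y`-part of all solutions in `k`.
* `exists_derivation`: in characteristic zero, derivations with prescribed values on an algebraically
  independent family.
* `derivation_aeval`: the chain rule.
-/

set_option autoImplicit false

universe u v w

open MvPolynomial

namespace Groth.Agent.Lefpen.H702.Generic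

theorem exists_ne_zero_of_forall_field {k : Type v} {R : Type u} [Field k] [CommRing R] [Algebra k R]
    {P : Type w} [CommRing P] [IsDomain P] [Algebra k P] (φ : P →ₐ[k] R)
    (h : ∀ (K : Type u) [Field K] [Algebra k K] (ψ : R →ₐ[k] K), ¬ Function.Injective (ψ.comp φ)) :
    ∃ f : P, f ≠ 0 ∧ φ f = 0 := by
  by_contra! hcon
  have hinj : Function.Injective φ := by
    rw [injective_iff_map_eq_zero]
    intro f hf
    by_contra hne
    exact hcon f hne hf
  have hmin : (⊥ : Ideal P) ∈ ((⊥ : Ideal R).comap φ.toRingHom).minimalPrimes := by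
    have h1 : (⊥ : Ideal R).comap φ.toRingHom = ⊥ := by
      rw [eq_bot_iff]
      intro x hx
      rw [Ideal.mem_comap, Ideal.mem_bot] at hx
      exact (Ideal.mem_bot).2 (hinj (by rw [map_zero]; exact hx))
    rw [h1]
    have : (⊥ : Ideal P).IsPrime := Ideal.isPrime_bot
    rw [Ideal.minimalPrimes_eq_subsingleton_self]
    rfl
  obtain ⟨q, hq, -, hqc⟩ := Ideal.exists_comap_eq_of_mem_minimalPrimes φ.toRingHom ⊥ hmin
  let K := FractionRing (R ⧸ q)
  have : IsScalarTower k (R ⧸ q) K := inferInstance
  let ψ : R →ₐ[k] K := (IsScalarTower.toAlgHom k (R ⧸ q) K).comp (Ideal.Quotient.mkₐ k q)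
  refine h K ψ ?_
  rw [injective_iff_map_eq_zero]
  intro f hf
  have h2 : (Ideal.Quotient.mk q (φ f)) = 0 := by
    have h3 : Function.Injective (algebraMap (R ⧸ q) K) := IsFractionRing.injective (R ⧸ q) K
    apply h3
    rw [map_zero]
    exact hf
  rw [Ideal.Quotient.eq_zero_iff_mem] at h2
  have h4 : f ∈ q.comap φ.toRingHom := h2
  rw [hqc] at h4
  exact (Ideal.mem_bot).1 h4

/-- Non-dominance lemma for polynomial systems. -/
theorem exists_polynomial_of_system {k : Type u} [Field k] {σ τ : Type}
    (S : Set (MvPolynomial (σ ⊕ τ) k))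
    (h : ∀ (K : Type u) [Field K] [Algebra k K] (y : σ → K) (p : τ → K),
      (∀ P ∈ S, aeval (Sum.elim y p) P = 0) → ¬ AlgebraicIndependent k y) :
    ∃ f : MvPolynomial σ k, f ≠ 0 ∧ ∀ (y : σ → k) (p : τ → k),
      (∀ P ∈ S, aeval (Sum.elim y p) P = 0) → aeval y f = 0 := by
  let R := MvPolynomial (σ ⊕ τ) k ⧸ Ideal.span S
  let φ : MvPolynomial σ k →ₐ[k] R := (Ideal.Quotient.mkₐ k (Ideal.span S)).comp (rename Sum.inl)
  obtain ⟨f, hf, hφ⟩ := exists_ne_zero_of_forall_field φ (fun K _ _ ψ hψ ↦ by
    let Φ : MvPolynomial (σ ⊕ τ) k →ₐ[k] K := ψ.comp (Ideal.Quotient.mkₐ k (Ideal.span S))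
    let y : σ → K := fun s ↦ Φ (X (Sum.inl s))
    let p : τ → K := fun t ↦ Φ (X (Sum.inr t))
    have hΦ : Φ = aeval (Sum.elim y p) := by
      apply MvPolynomial.algHom_ext
      rintro (s | t)
      · rw [aeval_X]; rfl
      · rw [aeval_X]; rfl
    refine h K y p (fun P hP ↦ ?_) ?_
    · rw [← hΦ]
      have : (Ideal.Quotient.mkₐ k (Ideal.span S)) P = 0 :=
        (Ideal.Quotient.eq_zero_iff_mem).2 (Ideal.subset_span hP)
      change ψ ((Ideal.Quotient.mkₐ k (Ideal.span S)) P) = 0
      rw [this, map_zero]
    · have h1 : ψ.comp φ = aeval y := by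
        apply MvPolynomial.algHom_ext
        intro s
        rw [aeval_X]
        change ψ ((Ideal.Quotient.mkₐ k (Ideal.span S)) (rename Sum.inl (X s))) = _
        rw [rename_X]
        rfl
      rw [AlgebraicIndependent, ← h1]
      exact hψ)
  refine ⟨f, hf, fun y p hyp ↦ ?_⟩
  have h2 : rename Sum.inl f ∈ Ideal.span S := (Ideal.Quotient.eq_zero_iff_mem).1 hφ
  have h3 : Ideal.span S ≤ RingHom.ker (aeval (R := k) (Sum.elim y p)) := by
    rw [Ideal.span_le]
    intro P hP
    exact hyp P hP
  have h4 := h3 h2
  rw [RingHom.mem_ker, aeval_rename] at h4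
  exact h4

/-- Derivations with values in a formally etale extension extend. -/
theorem exists_derivation_extend {k S K : Type*} [CommRing k] [CommRing S] [CommRing K] [Algebra k S]
    [Algebra k K] [Algebra S K] [IsScalarTower k S K] [Algebra.FormallyEtale S K]
    (D : Derivation k S K) :
    ∃ D' : Derivation k K K, ∀ s, D' (algebraMap S K s) = D s := by
  let l : Ω[S⁄k] →ₗ[S] K := D.liftKaehlerDifferential
  let l' : Ω[K⁄k] →ₗ[K] K := (l.liftBaseChange K) ∘ₗ
    (KaehlerDifferential.tensorKaehlerEquivOfFormallyEtale k S K).symm.toLinearMap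
  refine ⟨l'.compDer (KaehlerDifferential.D k K), fun s => ?_⟩
  change l.liftBaseChange K ((KaehlerDifferential.tensorKaehlerEquivOfFormallyEtale k S K).symm
    (KaehlerDifferential.D k K (algebraMap S K s))) = _
  rw [KaehlerDifferential.tensorKaehlerEquivOfFormallyEtale_symm_D_algebraMap]
  simp [l]

open scoped IntermediateField.algebraAdjoinAdjoin in
/-- In characteristic zero there are derivations with prescribed values on an algebraically
independent family. -/
theorem exists_derivation {k : Type*} {K : Type*} [Field k] [Field K] [Algebra k K] [CharZero k]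
    {σ : Type*} (y : σ → K) (hy : AlgebraicIndependent k y) (u : σ → K) :
    ∃ D : Derivation k K K, ∀ s, D (y s) = u s := by
  classical
  obtain ⟨t, ht, htb⟩ := exists_isTranscendenceBasis_superset hy.to_subtype_range
  have : CharZero K := charZero_of_injective_algebraMap (algebraMap k K).injective
  let x : t → K := Subtype.val
  let F := IntermediateField.adjoin k (Set.range x)
  have hal : Algebra.IsAlgebraic F K := htb.isAlgebraic_field
  have : CharZero F := charZero_of_injective_algebraMap (algebraMap k F).injective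
  have : Algebra.IsSeparable F K := inferInstance
  have h1 : Algebra.FormallyEtale F K := Algebra.FormallyEtale.of_isSeparable _ K
  let S := Algebra.adjoin k (Set.range x)
  have h2 : Algebra.FormallyEtale S F := Algebra.FormallyEtale.of_isLocalization (nonZeroDivisors S)
  have h3 : Algebra.FormallyEtale S K := Algebra.FormallyEtale.comp S F K
  let A := MvPolynomial t k
  let : Algebra A K := (aeval (R := k) x).toRingHom.toAlgebra
  have hst : IsScalarTower k A K := .of_algebraMap_eq' (by
    ext a
    simp [RingHom.algebraMap_toAlgebra])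
  let e : A ≃ₐ[k] S := htb.1.aevalEquiv
  have he : ∀ a : A, ((e a : S) : K) = aeval x a := fun a ↦ htb.1.algebraMap_aevalEquiv a
  let d : Derivation k A K := mkDerivation k (fun b : t ↦
    if h : ∃ s, y s = b then u h.choose else 0)
  let d' : Derivation k S K := Derivation.mk' (d.toLinearMap ∘ₗ e.symm.toLinearMap) (fun a b ↦ by
    change d (e.symm (a * b)) = a • d (e.symm b) + b • d (e.symm a)
    rw [map_mul, Derivation.leibniz]
    have h4 : ∀ (a : S) (z : K), e.symm a • z = a • z := fun a z ↦ by
      change aeval x (e.symm a) * z = (a : K) * z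
      rw [← he, e.apply_symm_apply]
    rw [h4, h4])
  obtain ⟨D, hD⟩ := exists_derivation_extend d'
  refine ⟨D, fun s ↦ ?_⟩
  have hs : y s ∈ t := ht ⟨s, rfl⟩
  have h5 : algebraMap S K (e (X ⟨y s, hs⟩)) = y s := by
    change ((e (X ⟨y s, hs⟩) : S) : K) = y s
    rw [he, aeval_X]
  rw [← h5, hD]
  change d (e.symm (e (X ⟨y s, hs⟩))) = _
  rw [e.symm_apply_apply, mkDerivation_X]
  have h6 : ∃ s', y s' = ((⟨y s, hs⟩ : t) : K) := ⟨s, rfl⟩
  rw [dif_pos h6]
  congr 1
  exact hy.injective h6.choose_spec

/-- The chain rule for derivations applied to polynomial expressions. -/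
theorem derivation_aeval {k K : Type*} [CommRing k] [CommRing K] [Algebra k K]
    {σ : Type*} [Fintype σ] (D : Derivation k K K) (x : σ → K) (f : MvPolynomial σ k) :
    D (aeval x f) = ∑ l, aeval x (pderiv l f) * D (x l) := by
  classical
  induction f using MvPolynomial.induction_on with
  | C a => simp
  | add p q hp hq =>
    simp only [map_add, hp, hq, add_mul, Finset.sum_add_distrib]
  | mul_X p n hp =>
    rw [map_mul, aeval_X, Derivation.leibniz, hp, smul_eq_mul, smul_eq_mul]
    simp only [Derivation.leibniz, smul_eq_mul, map_add, map_mul, aeval_X, pderiv_X, add_mul,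
      Finset.sum_add_distrib, Finset.mul_sum]
    congr 1
    · rw [Finset.sum_eq_single n]
      · simp
      · intro b _ hb
        rw [Pi.single_eq_of_ne (Ne.symm hb)]
        simp
      · simp
    · exact Finset.sum_congr rfl fun l _ ↦ by ring

end Groth.Agent.Lefpen.H702.Generic
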