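import Groth.Agent.Lefpen.H702.GenGeo
import Groth.Agent.Lefpen.H705.HypSmooth
import Groth.Agent.Lefpen.H705.OrdQuadHyp
import Mathlib.LinearAlgebra.Matrix.ToLin
import Mathlib.LinearAlgebra.Matrix.NonsingularInverse

/-!
# Nondegenerate tangency in classical coordinates gives a nondegenerate quadratic part

* `quadForm Q`: the quadratic form with coefficients `Q`; `nondegQuad_quadForm`: it is nondegenerate if
  `Q + Qᵀ` is injective.
* `linIndep_of_span`: a generating family of the maximal ideal of minimal length is independent in the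
  cotangent space.
* `exists_quadPart`: at a closed point where a form is tangent without degenerate direction, the quadratic
  part of its local equation in terms of parameters is nondegenerate.
-/

set_option autoImplicit false
universe u

open MvPolynomial LefPen AlgebraicGeometry CategoryTheory

namespace Groth.Agent.Lefpen.H702.QuadGeo

open Groth.Agent.Lefpen.H702.Dict Groth.Agent.Lefpen.H702.Tang Groth.Agent.Lefpen.H702.AffAlg
open Groth.Agent.Lefpen.H702.PolyFun Groth.Agent.Lefpen.H702.GenGeo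
open Groth.Agent.Lefpen.H705.SecIdeal Groth.Agent.Lefpen.H705.ChartPoly
open Groth.Agent.Lefpen.H705.PointCoord Groth.Agent.Lefpen.H705.ClosedPoint
open Groth.Agent.Lefpen.H705.HypSmooth
open IsLocalRing Groth.Agent.Sga5

section Form

variable {k : Type u} [Field k] {m : ℕ}

/-- The quadratic form with coefficients `Q`. -/
noncomputable def quadForm (Q : Fin (m + 1) → Fin (m + 1) → k) : Form m k 2 :=
  ⟨∑ i, ∑ j, C (Q i j) * (X i * X j), by
    rw [mem_homogeneousSubmodule]
    refine IsHomogeneous.sum _ _ _ fun i _ ↦ IsHomogeneous.sum _ _ _ fun j _ ↦ ?_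
    have h1 : (X i * X j : MvPolynomial (Fin (m + 1)) k).IsHomogeneous (1 + 1) :=
      (isHomogeneous_X k i).mul (isHomogeneous_X k j)
    have h2 := (isHomogeneous_C (Fin (m + 1)) (Q i j)).mul h1
    simpa using h2⟩

theorem pderiv_quadForm (Q : Fin (m + 1) → Fin (m + 1) → k) (n : Fin (m + 1)) :
    pderiv n (quadForm Q).1 = ∑ l, C (Q n l + Q l n) * X l := by
  classical
  have h6 : ∀ l m', pderiv n (C (Q l m') * (X l * X m')) =
      C (Q l m') * (if m' = n then X l else 0) + C (Q l m') * (if l = n then X m' else 0) := by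
    intro l m'
    rw [pderiv_C_mul, Derivation.leibniz, pderiv_X, pderiv_X, smul_eq_mul, smul_eq_mul, mul_add]
    congr 2
    · split_ifs with h
      · subst h; rw [Pi.single_eq_same, mul_one]
      · rw [Pi.single_eq_of_ne h, mul_zero]
    · split_ifs with h
      · subst h; rw [Pi.single_eq_same, mul_one]
      · rw [Pi.single_eq_of_ne h, mul_zero]
  change pderiv n (∑ i, ∑ j, C (Q i j) * (X i * X j)) = _
  simp_rw [map_sum, h6, Finset.sum_add_distrib, mul_ite, mul_zero, Finset.sum_ite_eq',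
    Finset.mem_univ, if_true]
  rw [Finset.sum_comm (f := fun l x ↦ if l = n then C (Q l x) * X x else 0)]
  simp_rw [Finset.sum_ite_eq', Finset.mem_univ, if_true]
  rw [← Finset.sum_add_distrib]
  exact Finset.sum_congr rfl fun l _ ↦ by rw [C_add]; ring

theorem eval₂Hom_quadForm {O : Type*} [CommRing O] (φ : k →+* O) (t : Fin (m + 1) → O)
    (Q : Fin (m + 1) → Fin (m + 1) → k) :
    eval₂Hom φ t (quadForm Q).1 = ∑ i, ∑ j, φ (Q i j) * (t i * t j) := by
  change eval₂Hom φ t (∑ i, ∑ j, C (Q i j) * (X i * X j)) = _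
  simp only [map_sum, map_mul, eval₂Hom_C, eval₂Hom_X']

theorem X_mem_of_nondeg (Q : Fin (m + 1) → Fin (m + 1) → k)
    (hQ : ∀ v : Fin (m + 1) → k, (∀ i, ∑ j, (Q i j + Q j i) * v j = 0) → v = 0) (l : Fin (m + 1)) :
    (X l : MvPolynomial (Fin (m + 1)) k) ∈
      Ideal.span (Set.range fun i ↦ pderiv i (quadForm Q).1) := by
  classical
  let M : Matrix (Fin (m + 1)) (Fin (m + 1)) k := fun i j ↦ Q i j + Q j i
  have hM : Function.Injective M.mulVec := by
    rw [← Matrix.coe_mulVecLin, ← LinearMap.ker_eq_bot, LinearMap.ker_eq_bot']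
    intro v hv
    exact hQ v fun i ↦ congrFun hv i
  have hu : IsUnit M := Matrix.mulVec_injective_iff_isUnit.1 hM
  have hdet : IsUnit M.det := (Matrix.isUnit_iff_isUnit_det M).1 hu
  have h1 : (X l : MvPolynomial (Fin (m + 1)) k) = ∑ i, C (M⁻¹ l i) * pderiv i (quadForm Q).1 := by
    simp_rw [pderiv_quadForm, Finset.mul_sum]
    rw [Finset.sum_comm]
    have h2 : ∀ j, ∑ i, C (M⁻¹ l i) * (C (Q i j + Q j i) * X j) =
        C ((M⁻¹ * M) l j) * (X j : MvPolynomial (Fin (m + 1)) k) := by
      intro j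
      rw [Matrix.mul_apply, map_sum, Finset.sum_mul]
      exact Finset.sum_congr rfl fun i _ ↦ by rw [C_mul]; ring
    simp_rw [h2, Matrix.nonsing_inv_mul M hdet]
    rw [Finset.sum_eq_single l]
    · simp
    · intro b _ hb
      rw [Matrix.one_apply_ne hb.symm]
      simp
    · simp
  rw [h1]
  exact Ideal.sum_mem _ fun i _ ↦ Ideal.mul_mem_left _ _ (Ideal.subset_span ⟨i, rfl⟩)

theorem nondegQuad_quadForm (Q : Fin (m + 1) → Fin (m + 1) → k)
    (hQ : ∀ v : Fin (m + 1) → k, (∀ i, ∑ j, (Q i j + Q j i) * v j = 0) → v = 0) :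
    NondegQuad k (quadForm Q) := by
  refine ⟨fun h0 ↦ ?_, Or.inr (smooth_hyp_of_X_pow_mem _ fun l ↦ ⟨1, ?_⟩)⟩
  · have h1 := X_mem_of_nondeg Q hQ 0
    rw [h0] at h1
    have h2 : Ideal.span (Set.range fun i ↦ pderiv i (0 : MvPolynomial (Fin (m + 1)) k)) = ⊥ := by
      rw [Ideal.span_eq_bot]
      rintro x ⟨i, rfl⟩
      simp
    rw [h2, Ideal.mem_bot] at h1
    exact X_ne_zero 0 h1
  · rw [pow_one]
    exact Ideal.span_mono Set.subset_union_right (X_mem_of_nondeg Q hQ l)

end Form

section Local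

/-- A generating family of the maximal ideal of minimal length is linearly independent in the cotangent
space. -/
theorem linIndep_of_span {O : Type*} [CommRing O] [IsLocalRing O] [IsNoetherianRing O] {n : ℕ}
    (t : Fin n → O) (ht : Ideal.span (Set.range t) = maximalIdeal O)
    (hn : Module.finrank (ResidueField O) (CotangentSpace O) = n) (c : Fin n → O)
    (hc : ∑ i, c i * t i ∈ maximalIdeal O ^ 2) (i : Fin n) : c i ∈ maximalIdeal O := by
  have hmem : ∀ l, t l ∈ maximalIdeal O := fun l => ht.le (Ideal.subset_span ⟨l, rfl⟩)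
  let v : Fin n → maximalIdeal O := fun l => ⟨t l, hmem l⟩
  have hv : Submodule.span O (Set.range v) = ⊤ := by
    apply Submodule.map_injective_of_injective (maximalIdeal O).injective_subtype
    rw [Submodule.map_span, Submodule.map_top, Submodule.range_subtype, ← Set.range_comp]
    exact ht
  have h1 : Submodule.span (ResidueField O) ((maximalIdeal O).toCotangent '' Set.range v) = ⊤ :=
    (CotangentSpace.span_image_eq_top_iff).mpr hv
  let w : Fin n → CotangentSpace O := fun l ↦ (maximalIdeal O).toCotangent (v l)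
  have h2 : Submodule.span (ResidueField O) (Set.range w) = ⊤ := by
    rw [← h1, ← Set.range_comp]
    rfl
  have h3 : LinearIndependent (ResidueField O) w :=
    linearIndependent_of_top_le_span_of_card_eq_finrank h2.ge (by rw [hn]; simp)
  have h4 : ∑ l, residue O (c l) • w l = 0 := by
    have h5 : ∑ l, residue O (c l) • w l = (maximalIdeal O).toCotangent (∑ l, c l • v l) := by
      rw [map_sum]
      exact Finset.sum_congr rfl fun l _ ↦ by rw [map_smul]; rfl
    rw [h5, Ideal.toCotangent_eq_zero]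
    simpa [v] using hc
  rw [Fintype.linearIndependent_iff] at h3
  exact (residue_eq_zero_iff _).1 (h3 _ h4 i)

end Local

section Geo

variable {k : Type u} [Field k] [IsAlgClosed k] {r m : ℕ} {X : Scheme.{u}}
  {i : X ⟶ CohB1.ProjSpace r k} [IsClosedImmersion i]
  [SmoothOfRelativeDimension (m + 1) (i ≫ CohB1.ProjSpace.toSpec r k)]

/-- The quadratic part of the local equation of a linear form at a nondegenerate point of tangency. -/
theorem exists_quadPart {j : Fin (r + 1)} {x : X} {hx : i x ∈ LefPen.chart r k j}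
    (hxc : IsClosed ({x} : Set X)) {a : Fin r → k} (ha : IsCoords i j x hx a) {s : ℕ}
    {f : Fin s → MvPolynomial (Fin r) k} (hf : Ideal.span (Set.range f) = RingHom.ker (chartHom i j))
    (H : Form r k 1) {lam : Fin s → k} (hT : IsTang j f (linCoords r k H) a lam)
    (hD : ∀ (w : Fin r → k) (mu : Fin s → k), IsDeg f a lam w mu → w = 0) :
    ∃ (t : Fin (m + 1) → X.presheaf.stalk x) (Q : Form m k 2),
      Ideal.span (Set.range t) = maximalIdeal (X.presheaf.stalk x) ∧
      stalkEqn i j x hx H - eval₂Hom (toStalk k (i ≫ CohB1.ProjSpace.toSpec r k) x) t Q.1 ∈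
        maximalIdeal (X.presheaf.stalk x) ^ 3 ∧ NondegQuad k Q := by
  have hs : Smooth (i ≫ CohB1.ProjSpace.toSpec r k) := SmoothOfRelativeDimension.smooth (m + 1) _
  have hreg := isRegularLocalRing_stalk (i ≫ CohB1.ProjSpace.toSpec r k) x
  obtain ⟨a', σ, -, hσ⟩ :=
    Groth.Agent.Lefpen.H705.OrdQuadHyp.exists_coordinates i (m + 1) x hxc j hx
  set t : Fin (m + 1) → X.presheaf.stalk x :=
    fun s ↦ coordHom i j x hx (MvPolynomial.X (σ s) - MvPolynomial.C (a' (σ s))) with ht
  have hfin := finrank_cotangentSpace_stalk (i ≫ CohB1.ProjSpace.toSpec r k) (m + 1) x hxc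
  -- the chart ring
  have hmax := isMaximal_ptPrime i j x hx hxc
  let _ := X.presheaf.algebra_section_stalk (⟨x, hx⟩ : i ⁻¹ᵁ LefPen.chart r k j)
  have hloc : IsLocalization.AtPrime (X.presheaf.stalk x) (ptPrime i j x hx) :=
    (isAffineOpen_preimage i j).isLocalization_stalk ⟨x, hx⟩
  have hφ : ∀ p, algebraMap Γ(X, i ⁻¹ᵁ LefPen.chart r k j) (X.presheaf.stalk x) (chartHom i j p) =
      coordHom i j x hx p := fun p ↦ germ_chartHom i j x hx p
  have hfb : ∀ b, chartHom i j (f b) = 0 := fun b ↦ by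
    rw [← RingHom.mem_ker, ← hf]; exact Ideal.subset_span ⟨b, rfl⟩
  let p : MvPolynomial (Fin r) k := ProjChart.dehom r k j H.1 - ∑ b, C (lam b) * f b
  obtain ⟨hT1, hT2, hT3⟩ := hT
  have hp : p ∈ ptIdeal a ^ 2 := by
    rw [mem_ptIdeal_sq_iff]
    constructor
    · simp only [p, map_sub, map_sum, map_mul, eval_C]
      rw [eval_dehom, eval_lin, hT2, zero_sub, neg_eq_zero]
      refine Finset.sum_eq_zero fun b _ ↦ ?_
      rw [ha.eval_eq_zero (hfb b), mul_zero]
    · intro l
      simp only [p, map_sub, map_sum, pderiv_C_mul, pderiv_dehom_lin, eval_C, map_mul]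
      rw [hT3 l, sub_eq_zero]
      refine Finset.sum_congr rfl fun b _ ↦ ?_
      rw [aeval_eq_eval]
  have hind : ∀ b : Fin (m + 1) → k, ∑ i_1, algebraMap Γ(X, i ⁻¹ᵁ LefPen.chart r k j)
      (X.presheaf.stalk x) (chartHom i j (C (b i_1))) * t i_1 ∈ maximalIdeal _ ^ 2 → b = 0 := by
    intro b hb
    ext l
    have h1 := linIndep_of_span t hσ hfin _ hb l
    rw [hφ, ha, eval_C] at h1
    exact h1
  have hno : ∀ (w : Fin r → k) (μ : Fin s → k), (∀ b, ∑ l, eval a (pderiv l (f b)) * w l = 0) →
      (∀ l, ∑ m, eval a (pderiv l (pderiv m p)) * w m = ∑ b, μ b * eval a (pderiv l (f b))) →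
      w = 0 := by
    intro w mu h1 h2
    refine hD w (fun b ↦ - mu b) ⟨fun b ↦ ?_, fun l ↦ ?_⟩
    · simpa only [aeval_eq_eval] using h1 b
    · have h3 := h2 l
      have h4 : ∀ n, eval a (pderiv l (pderiv n p)) =
          - ∑ b, lam b * eval a (pderiv l (pderiv n (f b))) := by
        intro n
        simp only [p, map_sub, map_sum, pderiv_C_mul, pderiv_dehom_lin, pderiv_C, zero_sub]
        rw [map_neg, map_sum]
        simp only [map_mul, eval_C]
      simp_rw [h4, neg_mul, Finset.sum_neg_distrib] at h3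
      simp_rw [neg_mul, Finset.sum_neg_distrib, aeval_eq_eval]
      rw [← h3, neg_neg]
  obtain ⟨Q, hQ1, hQ2⟩ := LocAlg.exists_quadForm (chartHom i j) (chartHom_surjective i j)
    (ptPrime i j x hx) a ha.comap_eq (O := X.presheaf.stalk x) t f hf hσ hind p hp hno
  refine ⟨t, quadForm Q, hσ, ?_, nondegQuad_quadForm Q hQ2⟩
  have h1 : algebraMap Γ(X, i ⁻¹ᵁ LefPen.chart r k j) (X.presheaf.stalk x) (chartHom i j p) =
      stalkEqn i j x hx H := by
    rw [stalkEqn_eq, ← hφ]
    congr 1
    simp only [p, map_sub, map_sum, map_mul, hfb, mul_zero, Finset.sum_const_zero, sub_zero]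
  rw [h1] at hQ1
  rw [eval₂Hom_quadForm]
  simp_rw [hφ, coordHom_C] at hQ1
  exact hQ1

end Geo

end Groth.Agent.Lefpen.H702.QuadGeo
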