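import Groth.Agent.Lefpen.H702.Engine
import Groth.Agent.Lefpen.H702.Dict

/-!
# Tangency systems and derivations

Affine scheme `f_b = 0` in the chart `j` of `P^r_k`, linear form `H = ∑ H_m T_m`.
* `IsTang j f H x lam`: `x` is a point of the scheme on `H`, and `H` is tangent there, with Lagrange
  multipliers `lam`.
* `tang_deriv`: then `(D H)(x) = 0` for every derivation `D`.
* `Deg j f x lam w mu`: `w` is a tangent vector in the kernel of the Hessian of `H` at `x`.
* `deg_deriv`: then `(D H)(w) = 0` for every derivation `D`.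
* `pencil_contradiction`: for a generic pencil `F, G` no member `F + c G` has `(D (F + c G))(v) = 0` and
  `(D (F + c G))(v') = 0` for all derivations, with `v, v'` not proportional.
-/

set_option autoImplicit false
universe u

open MvPolynomial

namespace Groth.Agent.Lefpen.H702.Tang

open Groth.Agent.Lefpen.H702.Dict Groth.Agent.Lefpen.H702.Generic

variable {k : Type u} [Field k] {r s : ℕ} (j : Fin (r + 1)) (f : Fin s → MvPolynomial (Fin r) k)

section Ring

variable {R : Type*} [CommRing R] [Algebra k R]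

/-- Tangency with Lagrange multipliers. -/
def IsTang (H : Fin (r + 1) → R) (x : Fin r → R) (lam : Fin s → R) : Prop :=
  (∀ b, aeval x (f b) = 0) ∧ (∑ m, H m * homCoords j x m = 0) ∧
    ∀ l, H (j.succAbove l) = ∑ b, lam b * aeval x (pderiv l (f b))

/-- The equations of `Tang`. -/
def tangSet (H : Fin (r + 1) → R) (x : Fin r → R) (lam : Fin s → R) : Set R :=
  (Set.range fun b ↦ aeval x (f b)) ∪ {∑ m, H m * homCoords j x m} ∪
    Set.range fun l ↦ H (j.succAbove l) - ∑ b, lam b * aeval x (pderiv l (f b))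

theorem map_homCoords {K : Type*} [CommRing K] [Algebra k K] (φ : R →ₐ[k] K) (x : Fin r → R)
    (m : Fin (r + 1)) : φ (homCoords j x m) = homCoords j (φ ∘ x) m := by
  obtain rfl | ⟨l, rfl⟩ := Fin.eq_self_or_eq_succAbove j m
  · simp
  · simp

theorem map_aeval' {K : Type*} [CommRing K] [Algebra k K] (φ : R →ₐ[k] K) {σ : Type*} (x : σ → R)
    (p : MvPolynomial σ k) : φ (aeval x p) = aeval (φ ∘ x) p := by
  change (φ.comp (aeval x)) p = _
  congr 1
  ext l
  simp

theorem tangSet_iff {K : Type*} [CommRing K] [Algebra k K] (φ : R →ₐ[k] K)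
    (H : Fin (r + 1) → R) (x : Fin r → R) (lam : Fin s → R) :
    (∀ Q ∈ tangSet j f H x lam, φ Q = 0) ↔ IsTang j f (φ ∘ H) (φ ∘ x) (φ ∘ lam) := by
  unfold tangSet IsTang
  constructor
  · intro h
    refine ⟨fun b ↦ ?_, ?_, fun l ↦ ?_⟩
    · rw [← map_aeval']
      exact h _ (Or.inl (Or.inl ⟨b, rfl⟩))
    · have := h _ (Or.inl (Or.inr rfl))
      rw [map_sum] at this
      simpa only [map_mul, map_homCoords, Function.comp_apply] using this
    · have := h _ (Or.inr ⟨l, rfl⟩)
      rw [map_sub, map_sum, sub_eq_zero] at this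
      simpa only [map_mul, map_aeval', Function.comp_apply] using this
  · rintro ⟨h1, h2, h3⟩ Q ((⟨b, rfl⟩ | rfl) | ⟨l, rfl⟩)
    · rw [map_aeval']; exact h1 b
    · rw [map_sum]
      simpa only [map_mul, map_homCoords, Function.comp_apply] using h2
    · rw [map_sub, map_sum, sub_eq_zero]
      simpa only [map_mul, map_aeval', Function.comp_apply] using h3 l

/-- Degenerate direction of the Hessian. -/
def IsDeg (x : Fin r → R) (lam : Fin s → R) (w : Fin r → R) (mu : Fin s → R) : Prop :=
  (∀ b, ∑ l, aeval x (pderiv l (f b)) * w l = 0) ∧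
    ∀ l, ∑ m, (∑ b, lam b * aeval x (pderiv l (pderiv m (f b)))) * w m =
      ∑ b, mu b * aeval x (pderiv l (f b))

/-- The equations of `Deg`. -/
def degSet (x : Fin r → R) (lam : Fin s → R) (w : Fin r → R) (mu : Fin s → R) : Set R :=
  (Set.range fun b ↦ ∑ l, aeval x (pderiv l (f b)) * w l) ∪
    Set.range fun l ↦ ∑ m, (∑ b, lam b * aeval x (pderiv l (pderiv m (f b)))) * w m -
      ∑ b, mu b * aeval x (pderiv l (f b))

theorem degSet_iff {K : Type*} [CommRing K] [Algebra k K] (φ : R →ₐ[k] K)
    (x : Fin r → R) (lam : Fin s → R) (w : Fin r → R) (mu : Fin s → R) :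
    (∀ Q ∈ degSet f x lam w mu, φ Q = 0) ↔ IsDeg f (φ ∘ x) (φ ∘ lam) (φ ∘ w) (φ ∘ mu) := by
  unfold degSet IsDeg
  constructor
  · intro h
    refine ⟨fun b ↦ ?_, fun l ↦ ?_⟩
    · have := h _ (Or.inl ⟨b, rfl⟩)
      rw [map_sum] at this
      simpa only [map_mul, map_aeval', Function.comp_apply] using this
    · have := h _ (Or.inr ⟨l, rfl⟩)
      rw [map_sub, map_sum, map_sum, sub_eq_zero] at this
      simpa only [map_sum, map_mul, map_aeval', Function.comp_apply] using this
  · rintro ⟨h1, h2⟩ Q (⟨b, rfl⟩ | ⟨l, rfl⟩)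
    · rw [map_sum]
      simpa only [map_mul, map_aeval', Function.comp_apply] using h1 b
    · rw [map_sub, map_sum, map_sum, sub_eq_zero]
      simpa only [map_sum, map_mul, map_aeval', Function.comp_apply] using h2 l

end Ring

section Field

variable {K : Type*} [Field K] [Algebra k K]

theorem sum_mul_homCoords {M : Type*} [CommRing M] (g : Fin (r + 1) → M) (v : Fin r → M) :
    ∑ m, g m * homCoords j v m = g j + ∑ l, g (j.succAbove l) * v l := by
  rw [Fin.sum_univ_succAbove _ j]
  simp

variable {j f}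

/-- Tangency gives `(D H)(x) = 0` for every derivation. -/
theorem tang_deriv {H : Fin (r + 1) → K} {x : Fin r → K} {lam : Fin s → K} (h : IsTang j f H x lam)
    (D : Derivation k K K) : ∑ m, D (H m) * homCoords j x m = 0 := by
  obtain ⟨h1, h2, h3⟩ := h
  have h4 := congrArg D h2
  rw [sum_mul_homCoords] at h4 ⊢
  rw [map_add, map_zero, map_sum] at h4
  simp only [Derivation.leibniz, smul_eq_mul] at h4
  rw [Finset.sum_add_distrib] at h4
  have h5 : ∑ l, H (j.succAbove l) * D (x l) = 0 := by
    simp_rw [h3, Finset.sum_mul]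
    rw [Finset.sum_comm]
    refine Finset.sum_eq_zero fun b _ ↦ ?_
    have h6 := congrArg D (h1 b)
    rw [derivation_aeval, map_zero] at h6
    simp_rw [mul_assoc]
    rw [← Finset.mul_sum, h6, mul_zero]
  rw [h5, zero_add] at h4
  rw [← h4]
  congr 1
  exact Finset.sum_congr rfl fun l _ ↦ mul_comm _ _

/-- A degenerate direction `w` of the Hessian satisfies `(D H)(w) = 0` for every derivation. -/
theorem deg_deriv {H : Fin (r + 1) → K} {x : Fin r → K} {lam : Fin s → K} {w : Fin r → K}
    {mu : Fin s → K} (h : IsTang j f H x lam) (h' : IsDeg f x lam w mu) (D : Derivation k K K) :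
    ∑ l, D (H (j.succAbove l)) * w l = 0 := by
  obtain ⟨h1, h2, h3⟩ := h
  obtain ⟨h4, h5⟩ := h'
  have h6 : ∀ l, D (H (j.succAbove l)) = ∑ b, D (lam b) * aeval x (pderiv l (f b)) +
      ∑ m, (∑ b, lam b * aeval x (pderiv m (pderiv l (f b)))) * D (x m) := by
    intro l
    rw [h3 l, map_sum]
    simp only [Derivation.leibniz, smul_eq_mul, derivation_aeval]
    rw [Finset.sum_add_distrib, add_comm]
    congr 1
    · exact Finset.sum_congr rfl fun b _ ↦ mul_comm _ _
    · simp_rw [Finset.sum_mul, Finset.mul_sum]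
      rw [Finset.sum_comm]
      exact Finset.sum_congr rfl fun b _ ↦ Finset.sum_congr rfl fun m _ ↦ (mul_assoc _ _ _).symm
  simp_rw [h6, add_mul, Finset.sum_add_distrib]
  have h7 : ∑ l, (∑ b, D (lam b) * aeval x (pderiv l (f b))) * w l = 0 := by
    simp_rw [Finset.sum_mul]
    rw [Finset.sum_comm]
    refine Finset.sum_eq_zero fun b _ ↦ ?_
    simp_rw [mul_assoc]
    rw [← Finset.mul_sum, h4 b, mul_zero]
  have h8 : ∑ l, (∑ m, (∑ b, lam b * aeval x (pderiv m (pderiv l (f b)))) * D (x m)) * w l = 0 := by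
    have h9 : ∑ l, (∑ m, (∑ b, lam b * aeval x (pderiv m (pderiv l (f b)))) * D (x m)) * w l =
        ∑ m, (∑ b, mu b * aeval x (pderiv m (f b))) * D (x m) := by
      simp_rw [← h5, Finset.sum_mul (s := (Finset.univ : Finset (Fin r)))]
      rw [Finset.sum_comm]
      refine Finset.sum_congr rfl fun m _ ↦ Finset.sum_congr rfl fun l _ ↦ ?_
      ring
    rw [h9]
    simp_rw [Finset.sum_mul]
    rw [Finset.sum_comm]
    refine Finset.sum_eq_zero fun b _ ↦ ?_
    have h10 := congrArg D (h1 b)
    rw [derivation_aeval, map_zero] at h10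
    simp_rw [mul_assoc]
    rw [← Finset.mul_sum, h10, mul_zero]
  rw [h7, h8, add_zero]

/-- A generic linear form is nowhere tangent. -/
theorem not_tang_of_algebraicIndependent [CharZero k] {H : Fin (r + 1) → K}
    (hH : AlgebraicIndependent k H) {x : Fin r → K} {lam : Fin s → K} : ¬ IsTang j f H x lam := by
  intro h
  obtain ⟨D, hD⟩ := exists_derivation H hH (Pi.single j 1)
  have h1 := tang_deriv h D
  simp_rw [hD] at h1
  rw [Finset.sum_eq_single j (fun m _ hm ↦ by rw [Pi.single_eq_of_ne hm, zero_mul]) (by simp)] at h1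
  simp at h1

/-- A generic pencil has transversal base locus. -/
theorem base_contradiction [CharZero k] {FG : Fin (r + 1) ⊕ Fin (r + 1) → K}
    (hFG : AlgebraicIndependent k FG) {x : Fin r → K} {lam : Fin s → K} (α β : K)
    (hF : ∑ m, FG (Sum.inl m) * homCoords j x m = 0) (hG : ∑ m, FG (Sum.inr m) * homCoords j x m = 0)
    (h : IsTang j f (fun m ↦ α * FG (Sum.inl m) + β * FG (Sum.inr m)) x lam) : α = 0 ∧ β = 0 := by
  have key : ∀ D : Derivation k K K, α * ∑ m, D (FG (Sum.inl m)) * homCoords j x m +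
      β * ∑ m, D (FG (Sum.inr m)) * homCoords j x m = 0 := by
    intro D
    have h1 := tang_deriv h D
    simp only [map_add, Derivation.leibniz, smul_eq_mul] at h1
    have h2 : ∑ m, (α * D (FG (Sum.inl m)) + FG (Sum.inl m) * D α +
        (β * D (FG (Sum.inr m)) + FG (Sum.inr m) * D β)) * homCoords j x m =
        α * ∑ m, D (FG (Sum.inl m)) * homCoords j x m +
        D α * ∑ m, FG (Sum.inl m) * homCoords j x m +
        (β * ∑ m, D (FG (Sum.inr m)) * homCoords j x m +
        D β * ∑ m, FG (Sum.inr m) * homCoords j x m) := by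
      simp only [Finset.mul_sum, ← Finset.sum_add_distrib]
      exact Finset.sum_congr rfl fun m _ ↦ by ring
    rw [h2, hF, hG, mul_zero, mul_zero, add_zero, add_zero] at h1
    exact h1
  constructor
  · obtain ⟨D, hD1, hD2⟩ := Engine.exists_derivation_pair FG hFG (Pi.single j 1) 0
    have h1 := key D
    simp_rw [hD1, hD2] at h1
    rw [Finset.sum_eq_single j (fun m _ hm ↦ by rw [Pi.single_eq_of_ne hm, zero_mul]) (by simp)] at h1
    simpa using h1
  · obtain ⟨D, hD1, hD2⟩ := Engine.exists_derivation_pair FG hFG 0 (Pi.single j 1)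
    have h1 := key D
    simp_rw [hD1, hD2] at h1
    rw [Finset.sum_eq_single (f := fun m ↦ (Pi.single j (1 : K) : Fin (r + 1) → K) m * homCoords j x m) j
      (fun m _ hm ↦ by rw [Pi.single_eq_of_ne hm, zero_mul]) (by simp)] at h1
    simpa using h1

/-- Members of generic pencils do not satisfy two independent differential conditions. -/
theorem pencil_contradiction [CharZero k] {N : ℕ} {FG : Fin N ⊕ Fin N → K}
    (hFG : AlgebraicIndependent k FG) (c : K) (v v' : Fin N → K) (m m' : Fin N)
    (hmin : v m * v' m' - v m' * v' m ≠ 0)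
    (h : ∀ D : Derivation k K K, ∑ l, D (FG (Sum.inl l) + c * FG (Sum.inr l)) * v l = 0)
    (h' : ∀ D : Derivation k K K, ∑ l, D (FG (Sum.inl l) + c * FG (Sum.inr l)) * v' l = 0) :
    False := by
  have key : ∀ n : Fin N, ∃ δ : K, v n = - (δ * ∑ l, FG (Sum.inr l) * v l) ∧
      v' n = - (δ * ∑ l, FG (Sum.inr l) * v' l) := by
    intro n
    obtain ⟨D, hD1, hD2⟩ := Engine.exists_derivation_pair FG hFG (Pi.single n 1) 0
    refine ⟨D c, ?_, ?_⟩
    · have h1 := h D
      simp only [map_add, Derivation.leibniz, smul_eq_mul, hD1, hD2, Pi.zero_apply, mul_zero,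
        zero_add, add_mul, Finset.sum_add_distrib] at h1
      rw [Finset.sum_eq_single n (fun m _ hm ↦ by rw [Pi.single_eq_of_ne hm, zero_mul]) (by simp),
        Pi.single_eq_same, one_mul] at h1
      rw [eq_neg_iff_add_eq_zero, Finset.mul_sum, ← h1]
      congr 1
      exact Finset.sum_congr rfl fun l _ ↦ by ring
    · have h1 := h' D
      simp only [map_add, Derivation.leibniz, smul_eq_mul, hD1, hD2, Pi.zero_apply, mul_zero,
        zero_add, add_mul, Finset.sum_add_distrib] at h1
      rw [Finset.sum_eq_single n (fun m _ hm ↦ by rw [Pi.single_eq_of_ne hm, zero_mul]) (by simp),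
        Pi.single_eq_same, one_mul] at h1
      rw [eq_neg_iff_add_eq_zero, Finset.mul_sum, ← h1]
      congr 1
      exact Finset.sum_congr rfl fun l _ ↦ by ring
  obtain ⟨δ, h1, h2⟩ := key m
  obtain ⟨δ', h3, h4⟩ := key m'
  apply hmin
  rw [h1, h2, h3, h4]
  ring

end Field

end Groth.Agent.Lefpen.H702.Tang
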